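import Groth.Agent.VCovLib.Chain
import Groth.Agent.DvrDom.Basic
import Groth.Agent.DvrDom.Scheme
import Mathlib.RingTheory.PowerSeries.Inverse
import Groth.Agent.DevissLib.ClosedImm
import Mathlib.RingTheory.TensorProduct.DirectLimitFG
import Mathlib.RingTheory.Flat.TorsionFree

/-!
# Universally submersive morphisms over valuation rings and Noetherian bases
-/

set_option autoImplicit false

universe u

open CategoryTheory CategoryTheory.Limits AlgebraicGeometry TopologicalSpace TensorProduct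

open Groth.Agent.ProConsLib

namespace VCovLib

variable {X Y : Scheme.{u}}

theorem eq_gen_or_closed {V : CommRingCat.{u}} [IsDomain V] [IsDiscreteValuationRing V] (y : Spec V) :
    y = gen V ∨ y = closed V := by
  by_cases h : y.asIdeal = ⊥
  · exact Or.inl (PrimeSpectrum.ext h)
  · exact Or.inr (PrimeSpectrum.ext (IsLocalRing.eq_maximalIdeal (y.isPrime.isMaximal h)))

theorem gen_ne_closed {V : CommRingCat.{u}} [IsDomain V] [IsDiscreteValuationRing V] : gen V ≠ closed V := fun e =>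
  IsDiscreteValuationRing.not_a_field V (congrArg PrimeSpectrum.asIdeal e).symm

theorem isQuotientMap_iff_isSSubtrusive_dvr {V : CommRingCat.{u}} [IsDomain V] [IsDiscreteValuationRing V]
    (f : X ⟶ Spec V) : Topology.IsQuotientMap f ↔ Subtr.IsSSubtrusive f := by
  constructor
  · intro hf y y' hy
    by_cases he : y' = y
    · obtain ⟨x, rfl⟩ := hf.surjective y
      exact ⟨x, x, specializes_rfl, rfl, he.symm⟩
    rcases eq_gen_or_closed y' with rfl | rfl
    · rcases eq_gen_or_closed y with rfl | rfl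
      · exact absurd rfl he
      by_contra hno
      have hcl : IsClosed (f ⁻¹' {gen V}) := by
        refine isClosed_of_closure_subset fun x hx => ?_
        rcases eq_gen_or_closed (f x) with h | h
        · exact h
        · obtain ⟨x', hx', hxx⟩ :=
            exists_specializes_of_mem_closure_sch (isProConstructible_preimage f (singleton_isProConstructible _)) hx
          exact absurd ⟨x, x', hxx, h, hx'⟩ hno
      exact gen_ne_closed ((gen_specializes_closed V).mem_closed (hf.isClosed_preimage.mp hcl) rfl).symm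
    · rcases eq_gen_or_closed y with rfl | rfl
      · exact absurd (Specializes.antisymm hy (gen_specializes_closed V)).eq he
      · exact absurd rfl he
  · intro h
    refine (Topology.isQuotientMap_iff_isClosed).mpr ⟨fun y => ?_, fun s => ⟨fun hs => hs.preimage f.continuous, fun hs => ?_⟩⟩
    · obtain ⟨x, -, -, hx, -⟩ := h (specializes_refl y); exact ⟨x, hx⟩
    have hst : ∀ a b, a ⤳ b → a ∈ s → b ∈ s := fun a b hab ha => by
      obtain ⟨x, x', hx, rfl, rfl⟩ := h hab
      exact hx.mem_closed hs ha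
    by_cases hg : gen V ∈ s
    · convert isClosed_univ
      refine Set.eq_univ_of_forall fun y => ?_
      rcases eq_gen_or_closed y with rfl | rfl
      · exact hg
      · exact hst _ _ (gen_specializes_closed V) hg
    · have hsub : s ⊆ {closed V} := fun y hy => (eq_gen_or_closed y).resolve_left fun e => hg (e ▸ hy)
      rcases Set.subset_singleton_iff_eq.mp hsub with rfl | rfl
      · exact isClosed_empty
      · exact (PrimeSpectrum.isClosed_singleton_iff_isMaximal _).mpr (IsLocalRing.maximalIdeal.isMaximal V)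

/-- Either a pair of primes lifts the generic and the closed point, or an equation prevents it. -/
theorem exists_eq_of_no_pair (V B : Type u) [CommRing V] [IsDomain V] [ValuationRing V] [CommRing B] [Algebra V B]
    (h : ∀ (q' q : Ideal B), q'.IsPrime → q.IsPrime → q' ≤ q → q'.comap (algebraMap V B) = ⊥ →
      q.comap (algebraMap V B) = IsLocalRing.maximalIdeal V → False) :
    ∃ (w v : V) (t b : B), w ≠ 0 ∧ v ∈ IsLocalRing.maximalIdeal V ∧ algebraMap V B w * t = 0 ∧
      1 = t + algebraMap V B v * b := by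
  let I : Ideal B :=
    { carrier := {b | ∃ w : V, w ≠ 0 ∧ algebraMap V B w * b = 0}
      zero_mem' := ⟨1, one_ne_zero, by simp⟩
      add_mem' := by
        rintro a b ⟨w, hw, ha⟩ ⟨w', hw', hb⟩
        exact ⟨w * w', mul_ne_zero hw hw', by
          rw [map_mul]
          linear_combination (algebraMap V B w') * ha + (algebraMap V B w) * hb⟩
      smul_mem' := by
        rintro c b ⟨w, hw, hb⟩
        exact ⟨w, hw, by rw [smul_eq_mul, mul_left_comm, hb, mul_zero]⟩ }
  by_cases htop : I ⊔ (IsLocalRing.maximalIdeal V).map (algebraMap V B) = ⊤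
  · obtain ⟨t, ⟨w, hw, hwt⟩, x, hx, htx⟩ := Submodule.mem_sup.mp ((Ideal.eq_top_iff_one _).mp htop)
    have hm : ∃ v ∈ IsLocalRing.maximalIdeal V, ∃ b, x = algebraMap V B v * b := by
      clear htx
      induction hx using Submodule.span_induction with
      | mem x hx => obtain ⟨v, hv, rfl⟩ := hx; exact ⟨v, hv, 1, (mul_one _).symm⟩
      | zero => exact ⟨0, zero_mem _, 0, by simp⟩
      | add x y _ _ hx hy =>
        obtain ⟨v, hv, b, rfl⟩ := hx
        obtain ⟨v', hv', b', rfl⟩ := hy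
        rcases ValuationRing.dvd_total v v' with ⟨c, rfl⟩ | ⟨c, rfl⟩
        · exact ⟨v, hv, b + algebraMap V B c * b', by rw [map_mul]; ring⟩
        · exact ⟨v', hv', algebraMap V B c * b + b', by rw [map_mul]; ring⟩
      | smul c x _ hx =>
        obtain ⟨v, hv, b, rfl⟩ := hx
        exact ⟨v, hv, c * b, by rw [smul_eq_mul]; ring⟩
    obtain ⟨v, hv, b, rfl⟩ := hm
    exact ⟨w, v, t, b, hw, hv, hwt, htx.symm⟩
  exfalso
  obtain ⟨q, hq, hle⟩ := Ideal.exists_le_maximal _ htop
  haveI := hq.isPrime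
  have hqm : q.comap (algebraMap V B) = IsLocalRing.maximalIdeal V :=
    ((IsLocalRing.maximalIdeal.isMaximal V).eq_of_le (Ideal.IsPrime.ne_top inferInstance)
      (Ideal.map_le_iff_le_comap.mp (le_sup_right.trans hle))).symm
  let S : Submonoid B := q.primeCompl ⊔ Submonoid.map (algebraMap V B) (nonZeroDivisors V)
  have hdisj : Disjoint ((⊥ : Ideal B) : Set B) (S : Set B) := by
    rw [Set.disjoint_left]
    rintro x hx hxS
    obtain ⟨s, hs, _, ⟨w, hw, rfl⟩, hsw⟩ := Submonoid.mem_sup.mp hxS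
    have hs' : s ∈ I := ⟨w, nonZeroDivisors.ne_zero hw, by rw [mul_comm, hsw]; simpa using hx⟩
    exact hs (hle (Ideal.mem_sup_left hs'))
  obtain ⟨q', hq', -, hq'S⟩ := Ideal.exists_le_prime_disjoint _ S hdisj
  refine h q' q hq' hq.isPrime (fun x hx => ?_) (eq_bot_iff.mpr fun w hw => ?_) hqm
  · by_contra hxq
    exact Set.disjoint_left.mp hq'S hx (Submonoid.mem_sup_left (show x ∈ q.primeCompl from hxq))
  · by_contra hw0
    exact Set.disjoint_left.mp hq'S hw
      (Submonoid.mem_sup_right ⟨w, mem_nonZeroDivisors_of_ne_zero (fun e => hw0 (by simp [e])), rfl⟩)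

/-- An equation in a tensor product comes from a finitely generated subalgebra. -/
theorem exists_fg_eq {R V A : Type u} [CommRing R] [CommRing V] [CommRing A] [Algebra R V] [Algebra R A]
    (w v : V) (t b : V ⊗[R] A) (h₀ : (w ⊗ₜ[R] (1 : A)) * t = 0) (h₁ : 1 = t + (v ⊗ₜ[R] (1 : A)) * b) :
    ∃ (S : Subalgebra R V) (_ : S.FG) (w' v' : S) (t' b' : S ⊗[R] A), (w' : V) = w ∧ (v' : V) = v ∧
      (w' ⊗ₜ[R] (1 : A)) * t' = 0 ∧ 1 = t' + (v' ⊗ₜ[R] (1 : A)) * b' := by
  classical
  obtain ⟨S₁, hS₁, t₁, rfl⟩ := TensorProduct.Algebra.exists_of_fg t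
  obtain ⟨S₂, hS₂, b₂, rfl⟩ := TensorProduct.Algebra.exists_of_fg b
  let S := S₁ ⊔ S₂ ⊔ Algebra.adjoin R (({w, v} : Finset V) : Set V)
  have hS : S.FG := (hS₁.sup hS₂).sup (Subalgebra.fg_adjoin_finset _)
  let ι : ∀ {P Q : Subalgebra R V}, P ≤ Q → P ⊗[R] A →ₐ[R] Q ⊗[R] A := fun h =>
    Algebra.TensorProduct.map (Subalgebra.inclusion h) (AlgHom.id R A)
  let π : ∀ P : Subalgebra R V, P ⊗[R] A →ₐ[R] V ⊗[R] A := fun P =>
    Algebra.TensorProduct.map P.val (AlgHom.id R A)
  have hπ : ∀ (P Q : Subalgebra R V) (h : P ≤ Q) (x : P ⊗[R] A), π Q (ι h x) = π P x := fun P Q h x => by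
    induction x using TensorProduct.induction_on with
    | zero => simp
    | tmul a c => rfl
    | add x y hx hy => simp only [map_add, hx, hy]
  let w' : S := ⟨w, (le_sup_right : _ ≤ S) (Algebra.subset_adjoin (by simp))⟩
  let v' : S := ⟨v, (le_sup_right : _ ≤ S) (Algebra.subset_adjoin (by simp))⟩
  let t' := ι (le_sup_left.trans le_sup_left : S₁ ≤ S) t₁
  let b' := ι (le_sup_right.trans le_sup_left : S₂ ≤ S) b₂
  have ht : π S t' = π S₁ t₁ := hπ _ _ _ _
  have hb : π S b' = π S₂ b₂ := hπ _ _ _ _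
  have e₀ : π S ((w' ⊗ₜ[R] (1 : A)) * t') = π S 0 := by rw [map_mul, map_zero, ht]; exact h₀
  have e₁ : π S 1 = π S (t' + (v' ⊗ₜ[R] (1 : A)) * b') := by rw [map_one, map_add, map_mul, ht, hb]; exact h₁
  have hπl : ∀ x : S ⊗[R] A, π S x = LinearMap.rTensor A S.val.toLinearMap x := fun _ => rfl
  rw [hπl, hπl] at e₀ e₁
  obtain ⟨Q₀, hSQ₀, hQ₀, q₀⟩ := TensorProduct.Algebra.eq_of_fg_of_subtype_eq hS e₀
  obtain ⟨Q₁, hSQ₁, hQ₁, q₁⟩ := TensorProduct.Algebra.eq_of_fg_of_subtype_eq hS e₁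
  replace q₀ : ι hSQ₀ ((w' ⊗ₜ[R] (1 : A)) * t') = ι hSQ₀ 0 := q₀
  replace q₁ : ι hSQ₁ 1 = ι hSQ₁ (t' + (v' ⊗ₜ[R] (1 : A)) * b') := q₁
  have hιι : ∀ {P Q T : Subalgebra R V} (h : P ≤ Q) (h' : Q ≤ T) (x : P ⊗[R] A), ι h' (ι h x) = ι (h.trans h') x := by
    intro P Q T h h' x
    induction x using TensorProduct.induction_on with
    | zero => simp
    | tmul a c => rfl
    | add x y hx hy => simp only [map_add, hx, hy]
  have hj : S ≤ Q₀ ⊔ Q₁ := hSQ₀.trans le_sup_left
  refine ⟨Q₀ ⊔ Q₁, hQ₀.sup hQ₁, Subalgebra.inclusion hj w', Subalgebra.inclusion hj v', ι hj t', ι hj b', rfl, rfl, ?_, ?_⟩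
  · have := congrArg (ι (le_sup_left : Q₀ ≤ Q₀ ⊔ Q₁)) q₀
    simp only [hιι, map_mul, map_zero] at this
    exact this
  · have := congrArg (ι (le_sup_right : Q₁ ≤ Q₀ ⊔ Q₁)) q₁
    simp only [hιι, map_mul, map_one, map_add] at this
    exact this

theorem hasPairs_of_dvr [IsLocallyNoetherian Y] (f : X ⟶ Y) [QuasiCompact f] [Surjective f]
    (hpairs : ∀ (D : CommRingCat.{u}) [IsDomain D] [IsDiscreteValuationRing D] (g : Spec D ⟶ Y),
      ∃ x' x : ↑(pullback g f), x' ⤳ x ∧ pullback.fst g f x' = gen D ∧ pullback.fst g f x = closed D) :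
    HasPairs f := by
  classical
  intro V _ _ g
  by_contra hno
  have hne : gen V ≠ closed V := fun e => by
    obtain ⟨x, hx⟩ := (pullback.fst g f).surjective (gen V)
    exact hno ⟨x, x, specializes_rfl, hx, e ▸ hx⟩
  obtain ⟨v₀, hv₀, hv₀0⟩ := Submodule.exists_mem_ne_zero_of_ne_bot (p := IsLocalRing.maximalIdeal V)
    fun e => hne (PrimeSpectrum.ext e.symm)
  obtain ⟨U, hU, hgU, -⟩ := exists_isAffineOpen_mem_and_subset (x := g (closed V)) (U := ⊤) trivial
  haveI : IsNoetherianRing Γ(Y, U) := IsLocallyNoetherian.component_noetherian ⟨U, hU⟩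
  let g₁ := IsOpenImmersion.lift hU.fromSpec g (by rw [hU.range_fromSpec]; exact range_subset_of_closed g hgU)
  obtain ⟨α, hα⟩ := Spec.map_surjective g₁
  have hg : g = Spec.map α ≫ hU.fromSpec := by rw [hα, IsOpenImmersion.lift_fac]
  algebraize [α.hom]
  have key : ∀ B : X.affineOpens, ∃ S : Subalgebra Γ(Y, U) V, S.FG ∧ ∀ (e : B.1 ≤ f ⁻¹ᵁ U),
      ∃ (w' v' : S), (w' : V) ≠ 0 ∧ (v' : V) ∈ IsLocalRing.maximalIdeal V ∧
        ∀ (K : Type u) [CommRing K] [IsDomain K] (σ : S →+* K) (τ : Γ(X, B.1) →+* K),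
          τ.comp (f.appLE U B.1 e).hom = σ.comp (algebraMap Γ(Y, U) S) → σ w' ≠ 0 → IsUnit (σ v') := by
    intro B
    by_cases e : B.1 ≤ f ⁻¹ᵁ U
    swap
    · exact ⟨⊥, Subalgebra.fg_bot, fun e' => absurd e' e⟩
    algebraize [(f.appLE U B.1 e).hom]
    let T : CommRingCat.{u} := CommRingCat.of (V ⊗[Γ(Y, U)] Γ(X, B.1))
    let iL : V ⟶ T := CommRingCat.ofHom Algebra.TensorProduct.includeLeftRingHom
    let iR : Γ(X, B.1) ⟶ T := CommRingCat.ofHom (Algebra.TensorProduct.includeRight (R := Γ(Y, U)) (A := V)).toRingHom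
    have hcomm : α ≫ iL = f.appLE U B.1 e ≫ iR := CommRingCat.hom_ext <| RingHom.ext fun r =>
      (Algebra.TensorProduct.includeLeft (R := Γ(Y, U)) (S := Γ(Y, U)) (A := V) (B := Γ(X, B.1))).commutes r |>.trans
        ((Algebra.TensorProduct.includeRight (R := Γ(Y, U)) (A := V) (B := Γ(X, B.1))).commutes r).symm
    obtain ⟨w, v, t, b, hw, hv, h₀, h₁⟩ := exists_eq_of_no_pair V (V ⊗[Γ(Y, U)] Γ(X, B.1))
      (fun q' q hq' hq hle h' h'' => by
        let k : Spec T ⟶ pullback g f := pullback.lift (Spec.map iL) (Spec.map iR ≫ B.2.fromSpec) (by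
          rw [hg, Category.assoc, ← hU.SpecMap_appLE_fromSpec f B.2 e, ← Spec.map_comp_assoc, ← Spec.map_comp_assoc,
            hcomm])
        have hk : k ≫ pullback.fst g f = Spec.map iL := pullback.lift_fst _ _ _
        refine hno ⟨k ⟨q', hq'⟩, k ⟨q, hq⟩, ((PrimeSpectrum.le_iff_specializes (⟨q', hq'⟩ : PrimeSpectrum T)
          ⟨q, hq⟩).mp hle).map k.continuous, ?_, ?_⟩
        · rw [← Scheme.Hom.comp_apply, hk]; exact PrimeSpectrum.ext h'
        · rw [← Scheme.Hom.comp_apply, hk]; exact PrimeSpectrum.ext h'')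
    obtain ⟨S, hS, w', v', t', b', rfl, rfl, e₀, e₁⟩ := exists_fg_eq (R := Γ(Y, U)) w v t b h₀ h₁
    refine ⟨S, hS, fun _ => ⟨w', v', hw, hv, fun K _ _ σ τ hστ hσw => ?_⟩⟩
    algebraize [σ.comp (algebraMap Γ(Y, U) S)]
    let σ' : S →ₐ[Γ(Y, U)] K := { σ with commutes' := fun r => rfl }
    let τ' : Γ(X, B.1) →ₐ[Γ(Y, U)] K := { τ with commutes' := fun r => RingHom.congr_fun hστ r }
    let m := Algebra.TensorProduct.productMap σ' τ'
    have hm : ∀ s : S, m (s ⊗ₜ[Γ(Y, U)] (1 : Γ(X, B.1))) = σ s := fun s => by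
      simp [m, σ', Algebra.TensorProduct.productMap_apply_tmul]
    have ht : m t' = 0 := by
      have := congrArg m e₀
      rw [map_mul, hm, map_zero] at this
      exact (mul_eq_zero.mp this).resolve_left hσw
    have := congrArg m e₁
    rw [map_one, map_add, map_mul, hm, ht, zero_add] at this
    exact IsUnit.of_mul_eq_one _ this.symm
  choose S hSfg hS using key
  obtain ⟨s, hs⟩ := (f.isCompact_preimage hU.isCompact).elim_finite_subcover
    (fun B : {B : X.affineOpens // B.1 ≤ f ⁻¹ᵁ U} => ((B.1.1 : X.Opens) : Set X)) (fun B => B.1.1.2) fun x hx => by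
      obtain ⟨B, hB, hxB, hBle⟩ := exists_isAffineOpen_mem_and_subset (x := x) (U := f ⁻¹ᵁ U) hx
      exact Set.mem_iUnion.mpr ⟨⟨⟨B, hB⟩, hBle⟩, hxB⟩
  choose w v hw hv hK using fun B : {B : X.affineOpens // B.1 ≤ f ⁻¹ᵁ U} => hS B.1 B.2
  let S₀ : Subalgebra Γ(Y, U) V := (s.sup fun B => S B.1) ⊔ Algebra.adjoin Γ(Y, U) (({v₀} : Finset V) : Set V)
  have hS₀ : S₀.FG :=
    (Finset.sup_induction Subalgebra.fg_bot (fun _ h₁ _ h₂ => h₁.sup h₂) fun B _ => hSfg B.1).sup
      (Subalgebra.fg_adjoin_finset _)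
  haveI : Algebra.FiniteType Γ(Y, U) S₀ := (Subalgebra.fg_iff_finiteType _).mp hS₀
  haveI : IsNoetherianRing S₀ := Algebra.FiniteType.isNoetherianRing Γ(Y, U) S₀
  let P : Ideal S₀ := (IsLocalRing.maximalIdeal V).comap S₀.val.toRingHom
  let L := FractionRing S₀
  obtain ⟨D, hD, hmem, hlt⟩ := DvrDomLib.exists_dvr_dominating (L := L) P
    (by rw [(RingHom.injective_iff_ker_eq_bot _).mp (IsFractionRing.injective S₀ L)]; exact bot_le)
    ⟨⟨v₀, (le_sup_right : _ ≤ S₀) (Algebra.subset_adjoin (by simp))⟩, hv₀, fun e => hv₀0 <| by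
      have := IsFractionRing.injective S₀ L (e.trans (map_zero _).symm)
      exact congrArg Subtype.val this⟩ ∅
    (by
      refine eq_top_iff.mpr fun x _ => ?_
      obtain ⟨a, b, -, rfl⟩ := IsFractionRing.div_surjective (A := S₀) x
      exact div_mem (Subfield.subset_closure (Or.inl ⟨a, rfl⟩)) (Subfield.subset_closure (Or.inl ⟨b, rfl⟩)))
  let DD : CommRingCat.{u} := CommRingCat.of D
  haveI : IsDomain DD := inferInstanceAs (IsDomain D)
  haveI : IsDiscreteValuationRing DD := hD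
  let ρ : S₀ →+* DD := (algebraMap S₀ L).codRestrict D.toSubring hmem
  let δ : Γ(Y, U) ⟶ DD := CommRingCat.ofHom (ρ.comp (algebraMap Γ(Y, U) S₀))
  let gD : Spec DD ⟶ Y := Spec.map δ ≫ hU.fromSpec
  obtain ⟨x', x, hxx, hx', hx⟩ := hpairs DD gD
  obtain ⟨W, _, _, φ, hφ, l, hl, -, -⟩ := exists_extVal (pullback.fst gD f) hxx hx' hx
  have hla : (l ≫ pullback.snd gD f) ≫ f = Spec.map φ ≫ gD := by
    rw [Category.assoc, ← pullback.condition, ← Category.assoc, hl]
  let a := l ≫ pullback.snd gD f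
  have haU : a (closed W) ∈ f ⁻¹ᵁ U := by
    show f (a (closed W)) ∈ U
    rw [← Scheme.Hom.comp_apply, hla, Scheme.Hom.comp_apply, Scheme.Hom.comp_apply]
    exact hU.range_fromSpec.le ⟨_, rfl⟩
  obtain ⟨B, hBs, haB⟩ := Set.mem_iUnion₂.mp (hs haU)
  let a' := IsOpenImmersion.lift B.1.2.fromSpec a
    (by rw [B.1.2.range_fromSpec]; exact range_subset_of_closed a haB)
  obtain ⟨τ, hτ⟩ := Spec.map_surjective a'
  have hcomp : f.appLE U B.1.1 B.2 ≫ τ = δ ≫ φ := by
    refine Spec.map_injective ?_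
    rw [← cancel_mono hU.fromSpec, Spec.map_comp, Category.assoc, hU.SpecMap_appLE_fromSpec f B.1.2 B.2, hτ,
      IsOpenImmersion.lift_fac_assoc, Spec.map_comp, Category.assoc]
    exact hla
  have hle : S B.1 ≤ S₀ := (Finset.le_sup (f := fun B : {B : X.affineOpens // B.1 ≤ f ⁻¹ᵁ U} => S B.1) hBs).trans le_sup_left
  let σ : S B.1 →+* W := φ.hom.comp (ρ.comp (Subalgebra.inclusion hle).toRingHom)
  have hσw : σ (w B) ≠ 0 := fun e => hw B <| by
    have h1 : ρ (Subalgebra.inclusion hle (w B)) = 0 := hφ.1 (e.trans (map_zero _).symm)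
    have h2 : Subalgebra.inclusion hle (w B) = 0 :=
      IsFractionRing.injective S₀ L ((congrArg Subtype.val h1).trans (map_zero _).symm)
    exact congrArg Subtype.val h2
  have hu : IsUnit (σ (v B)) := hK B W σ τ.hom (congrArg CommRingCat.Hom.hom hcomp) hσw
  haveI := hφ.2
  have hu' : IsUnit (ρ (Subalgebra.inclusion hle (v B))) := IsUnit.of_map φ.hom _ hu
  have h3 : D.valuation (algebraMap S₀ L (Subalgebra.inclusion hle (v B))) < 1 := (hlt _).mpr (hv B)
  exact (not_lt.mpr (((D.valuation_eq_one_iff _).mp hu').ge)) h3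

theorem hasPairs_of_univSubmersive [IsLocallyNoetherian Y] (f : X ⟶ Y) [QuasiCompact f]
    (hf : SGA1.UnivSubmersive f) : HasPairs f :=
  haveI : Surjective f := ⟨(FFDescLib.isQuotientMap_of_univSubmersive hf).surjective⟩
  hasPairs_of_dvr f fun D _ _ g => by
    obtain ⟨x, x', hxx, hx, hx'⟩ := (isQuotientMap_iff_isSSubtrusive_dvr (pullback.fst g f)).mp
      (hf _ _ _ (IsPullback.of_hasPullback g f)) (gen_specializes_closed D)
    exact ⟨x', x, hxx, hx', hx⟩

theorem univSubmersive_iff_univSSubtrusive [IsLocallyNoetherian Y] (f : X ⟶ Y) [QuasiCompact f] :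
    SGA1.UnivSubmersive f ↔ Subtr.UnivSSubtrusive f :=
  ⟨fun h => univ_of_hasPairs (hasPairs_of_univSubmersive f h), univSubmersive_of_univSSubtrusive f⟩

theorem flat_of_dense_genericFibre {Z : Scheme.{u}} [IsReduced Z] {V : CommRingCat.{u}} [IsDomain V] [ValuationRing V]
    (g : Z ⟶ Spec V) (hd : Dense (g ⁻¹' {gen V})) : Flat g := by
  rw [IsZariskiLocalAtSource.iff_of_openCover (P := @Flat) Z.affineCover]
  intro i
  obtain ⟨B, k, e⟩ : ∃ (B : CommRingCat.{u}) (k : Spec B ⟶ Z.affineCover.X i), IsIso k :=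
    ⟨_, (Z.affineCover.X i).isoSpec.inv, inferInstance⟩
  rw [← MorphismProperty.cancel_left_of_respectsIso @Flat k]
  let h : Spec B ⟶ Z := k ≫ Z.affineCover.f i
  haveI : IsReduced (Spec B) := isReduced_of_isOpenImmersion h
  haveI : _root_.IsReduced B := (affine_isReduced_iff B).mp ‹_›
  have hd' : Dense (h ⁻¹' (g ⁻¹' {gen V})) := hd.preimage h.isOpenEmbedding.isOpenMap
  rw [← Category.assoc]
  obtain ⟨χ, hχ⟩ := Spec.map_surjective (h ≫ g)
  have hχ' : Spec.map χ = (k ≫ Z.affineCover.f i) ≫ g := hχ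
  rw [← hχ', HasRingHomProperty.Spec_iff (P := @Flat)]
  algebraize [χ.hom]
  change Module.Flat V B
  rw [Module.Flat.flat_iff_torsion_eq_bot_of_isBezout, eq_bot_iff]
  rintro b ⟨⟨w, hw⟩, hwb⟩
  have hwb' : χ.hom w * b = 0 := hwb
  rw [Submodule.mem_bot]
  by_contra hb
  have hne : (PrimeSpectrum.basicOpen b : Set (PrimeSpectrum B)).Nonempty := by
    rw [Set.nonempty_iff_ne_empty]
    intro e
    exact hb ((isNilpotent_iff_eq_zero).mp ((PrimeSpectrum.basicOpen_eq_bot_iff b).mp (Opens.ext e)))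
  obtain ⟨p, hp, hpb⟩ := hd'.exists_mem_open (PrimeSpectrum.basicOpen b).2 hne
  have hp' : Spec.map χ p = gen V := by rw [hχ]; exact hp
  have hcomap : p.asIdeal.comap χ.hom = ⊥ := congrArg PrimeSpectrum.asIdeal hp'
  have : χ.hom w ∈ p.asIdeal :=
    (p.isPrime.mem_or_mem (hwb' ▸ p.asIdeal.zero_mem)).resolve_right hpb
  exact nonZeroDivisors.ne_zero hw (by simpa [hcomap] using (Ideal.mem_comap (f := χ.hom)).mpr this)

theorem univSSubtrusive_tfae (V : Type u) [CommRing V] [IsDomain V] [ValuationRing V]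
    {X : Scheme.{u}} (f : X ⟶ Spec (CommRingCat.of V)) :
    List.TFAE [
      Subtr.UnivSSubtrusive f,
      Subtr.IsSSubtrusive f,
      ∀ y : Spec (CommRingCat.of V), ∃ x : X,
        x ∈ closure (f ⁻¹' {(⟨⊥, Ideal.isPrime_bot⟩ : PrimeSpectrum V)}) ∧ f x = y,
      ∃ x x' : X, x' ⤳ x ∧ f x = IsLocalRing.closedPoint V ∧
        f x' = (⟨⊥, Ideal.isPrime_bot⟩ : PrimeSpectrum V),
      ∃ (W : Type u) (_ : CommRing W) (_ : IsDomain W) (_ : ValuationRing W)
        (g : Spec (CommRingCat.of W) ⟶ X), Surjective (g ≫ f),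
      ∃ (Z : Scheme.{u}) (i : Z ⟶ X), IsClosedImmersion i ∧ Flat (i ≫ f) ∧ Surjective (i ≫ f)] := by
  tfae_have 1 → 2 := fun h => h (𝟙 _) (𝟙 _) f IsPullback.of_id_snd
  tfae_have 2 → 3 := fun h y => by
    obtain ⟨x, x', hx, rfl, hx'⟩ :=
      h ((PrimeSpectrum.le_iff_specializes (⟨⊥, Ideal.isPrime_bot⟩ : PrimeSpectrum V) y).mp bot_le)
    exact ⟨x, closure_mono (Set.singleton_subset_iff.mpr (show x' ∈ f ⁻¹' {(⟨⊥, Ideal.isPrime_bot⟩ : PrimeSpectrum V)} from hx'))
      (specializes_iff_mem_closure.mp hx), rfl⟩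
  tfae_have 2 → 4 := fun h => h (gen_specializes_closed (CommRingCat.of V))
  tfae_have 4 → 5 := fun ⟨x, x', hx, h₀, h₁⟩ => by
    obtain ⟨W, _, _, φ, hφ, l, hl, -, -⟩ := exists_extVal f hx h₁ h₀
    exact ⟨W, inferInstance, inferInstance, inferInstance, l, hl ▸ surjective_of_isExtVal hφ⟩
  tfae_have 5 → 1 := fun ⟨W, _, _, _, g, hg⟩ => by
    obtain ⟨φ, hφ⟩ := Spec.map_surjective (g ≫ f)
    haveI := hg
    haveI : Flat (g ≫ f) := by
      rw [← hφ, HasRingHomProperty.Spec_iff (P := @Flat)]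
      algebraize [φ.hom]
      change Module.Flat V W
      rw [Module.Flat.flat_iff_torsion_eq_bot_of_isBezout, eq_bot_iff]
      rintro b ⟨⟨w, hw⟩, hwb⟩
      have hwb' : φ.hom w * b = 0 := hwb
      rw [Submodule.mem_bot]
      refine (mul_eq_zero.mp hwb').resolve_left fun h0 => nonZeroDivisors.ne_zero hw ?_
      obtain ⟨p, hp⟩ := hg.surj (gen (CommRingCat.of V))
      rw [← hφ] at hp
      have hc : p.asIdeal.comap φ.hom = ⊥ := congrArg PrimeSpectrum.asIdeal hp
      have : w ∈ p.asIdeal.comap φ.hom := by rw [Ideal.mem_comap, h0]; exact zero_mem _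
      simpa [hc] using this
    exact univ_of_comp g f (univ_of_flat_surjective _)
  tfae_have 3 → 6 := fun h => by
    let C : TopologicalSpace.Closeds X := ⟨closure (f ⁻¹' {gen (CommRingCat.of V)}), isClosed_closure⟩
    let I := Scheme.IdealSheafData.vanishingIdeal C
    have hr : Set.range I.subschemeι = C := by
      rw [Scheme.IdealSheafData.range_subschemeι, Scheme.IdealSheafData.coe_support_vanishingIdeal]
    have hd : Dense ((I.subschemeι ≫ f) ⁻¹' {gen (CommRingCat.of V)}) := fun z => by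
      rw [I.subschemeι.isEmbedding.closure_eq_preimage_closure_image]
      have e : I.subschemeι '' ((I.subschemeι ≫ f) ⁻¹' {gen (CommRingCat.of V)}) = f ⁻¹' {gen (CommRingCat.of V)} := by
        rw [Scheme.Hom.comp_base, TopCat.coe_comp, Set.preimage_comp, Set.image_preimage_eq_iff, hr]
        exact subset_closure
      rw [Set.mem_preimage, e]
      exact hr.le ⟨z, rfl⟩
    haveI : IsReduced I.subscheme := DevissLib.isReduced_vanishingIdeal' C
    refine ⟨_, I.subschemeι, inferInstance, flat_of_dense_genericFibre _ hd, ⟨fun y => ?_⟩⟩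
    obtain ⟨x, hx, rfl⟩ := h y
    obtain ⟨z, rfl⟩ := hr.ge hx
    exact ⟨z, rfl⟩
  tfae_have 6 → 1 := fun ⟨Z, i, _, h₁, h₂⟩ => univ_of_comp i f (univ_of_flat_surjective _)
  tfae_finish

theorem univSubmersive_tfae_dvr [IsLocallyNoetherian Y] (f : X ⟶ Y) [LocallyOfFiniteType f] [QuasiCompact f] :
    List.TFAE [
      SGA1.UnivSubmersive f,
      Subtr.UnivSSubtrusive f,
      ∀ (D : Type u) [CommRing D] [IsDomain D] [IsDiscreteValuationRing D] (g : Spec (CommRingCat.of D) ⟶ Y),
        ∃ (D' : Type u) (_ : CommRing D') (_ : IsDomain D') (_ : IsDiscreteValuationRing D')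
          (a : Spec (CommRingCat.of D') ⟶ X) (b : Spec (CommRingCat.of D') ⟶ Spec (CommRingCat.of D)),
          Surjective b ∧ a ≫ f = b ≫ g] := by
  tfae_have 1 ↔ 2 := univSubmersive_iff_univSSubtrusive f
  tfae_have 2 → 3 := fun h D _ _ _ g => by
    haveI : IsDiscreteValuationRing (CommRingCat.of D) := inferInstanceAs (IsDiscreteValuationRing D)
    haveI : IsNoetherianRing (CommRingCat.of D) := inferInstanceAs (IsNoetherianRing D)
    obtain ⟨x', x, hxx, hx', hx⟩ := hasPairs_of_univ h (CommRingCat.of D) g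
    haveI : IsLocallyNoetherian (pullback g f) := LocallyOfFiniteType.isLocallyNoetherian (pullback.fst g f)
    have hne : x ≠ x' := fun e => gen_ne_closed (hx'.symm.trans ((congrArg _ e.symm).trans hx))
    obtain ⟨A, k, hA, hk, hkx⟩ := DvrDomLib.exists_dvr_through_specialization (𝟙 (pullback g f)) x' x hxx hne
    refine ⟨A, inferInstance, inferInstance, hA, k ≫ pullback.snd g f, k ≫ pullback.fst g f, ⟨fun y => ?_⟩, by
      rw [Category.assoc, Category.assoc, pullback.condition]⟩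
    rcases eq_gen_or_closed y with rfl | rfl
    · refine ⟨Spec.map (CommRingCat.ofHom A.subtype) (IsLocalRing.closedPoint _), ?_⟩
      rw [← Scheme.Hom.comp_apply, ← Category.assoc, hkx, Category.comp_id, Scheme.Hom.comp_apply,
        Scheme.fromSpecResidueField_apply, hx']
    · exact ⟨IsLocalRing.closedPoint A, by rw [Scheme.Hom.comp_apply, hk, hx]⟩
  tfae_have 3 → 2 := fun h => by
    haveI : Surjective f := ⟨fun y => by
      obtain ⟨D', _, _, _, a, b, hb, hab⟩ := h (PowerSeries (Y.residueField y))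
        (Spec.map (CommRingCat.ofHom (PowerSeries.C (R := Y.residueField y))) ≫ Y.fromSpecResidueField y)
      refine ⟨a (IsLocalRing.closedPoint D'), ?_⟩
      rw [← Scheme.Hom.comp_apply, hab, Scheme.Hom.comp_apply, Scheme.Hom.comp_apply]
      exact Scheme.fromSpecResidueField_apply y _⟩
    refine univ_of_hasPairs (hasPairs_of_dvr f fun D _ _ g => ?_)
    obtain ⟨W, _, _, hW, a, b, hb, hab⟩ := h D g
    haveI : IsDiscreteValuationRing (CommRingCat.of W) := hW
    obtain ⟨y', hy'⟩ := b.surjective (gen D)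
    obtain ⟨y, hy⟩ := b.surjective (closed D)
    let q := pullback.lift b a hab.symm
    have hq : q ≫ pullback.fst g f = b := pullback.lift_fst _ _ _
    refine ⟨q y', q y, ?_, by rw [← Scheme.Hom.comp_apply, hq, hy'], by rw [← Scheme.Hom.comp_apply, hq, hy]⟩
    rcases eq_gen_or_closed (V := CommRingCat.of W) y' with rfl | rfl
    · exact ((PrimeSpectrum.le_iff_specializes _ _).mp bot_le).map q.continuous
    · rcases eq_gen_or_closed (V := CommRingCat.of W) y with rfl | rfl
      · exfalso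
        have hs := (gen_specializes_closed (CommRingCat.of W)).map b.continuous
        rw [hy, hy'] at hs
        exact gen_ne_closed (Specializes.antisymm (gen_specializes_closed D) hs).eq
      · exact absurd (hy'.symm.trans hy) gen_ne_closed
  tfae_finish

end VCovLib
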