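import Groth.Agent.VCovLib.Sheaf

/-!
# ph coverings and sheaves, proper coverings, disjoint unions
-/

set_option autoImplicit false

universe w w' u

open CategoryTheory CategoryTheory.Limits AlgebraicGeometry TopologicalSpace

namespace VCovLib

variable {T U Z : Scheme.{u}}

theorem exists_preimage_of_isPullback {P X Y : Scheme.{u}} {a : P ⟶ X} {b : P ⟶ Y} {f : X ⟶ Z} {g : Y ⟶ Z}
    (h : IsPullback a b f g) (x : X) (y : Y) (hxy : f x = g y) : ∃ z : P, a z = x := by
  obtain ⟨q, hq, -⟩ := Scheme.Pullback.exists_preimage_pullback x y hxy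
  refine ⟨h.isoPullback.inv q, ?_⟩
  rw [← Scheme.Hom.comp_apply, IsPullback.isoPullback_inv_fst]
  exact hq

theorem isStandardPh_pullback₁ [IsAffine U] {E : PreZeroHypercover.{w} T} (hE : HTop.IsStandardPh E) (g : U ⟶ T) :
    HTop.IsStandardPh (E.pullback₁ g) where
  isAffine := inferInstance
  finite_index := hE.finite_index
  isAffine_obj j := by
    have := hE.isAffine
    have := hE.isAffine_obj j
    exact inferInstanceAs (IsAffine (pullback g (E.f j)))
  exists_proper := by
    obtain ⟨Y, f, ι, hf, hs, hι, hcomp, hcov⟩ := hE.exists_proper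
    let κ : ∀ j, pullback g (E.f j) ⟶ pullback g f := fun j =>
      pullback.lift (pullback.fst _ _) (pullback.snd _ _ ≫ ι j) (by rw [Category.assoc, hcomp, pullback.condition])
    have hsq : ∀ j, IsPullback (κ j) (pullback.snd g (E.f j)) (pullback.snd g f) (ι j) := fun j => by
      refine IsPullback.of_right ?_ (pullback.lift_snd _ _ _) (IsPullback.of_hasPullback g f)
      have e1 : κ j ≫ pullback.fst g f = pullback.fst g (E.f j) := pullback.lift_fst _ _ _
      rw [e1, hcomp]
      exact IsPullback.of_hasPullback g (E.f j)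
    refine ⟨pullback g f, pullback.fst g f, κ, inferInstance, inferInstance, fun j => ?_,
      fun j => pullback.lift_fst _ _ _, fun x => ?_⟩
    · haveI := hι j
      exact MorphismProperty.of_isPullback (P := @IsOpenImmersion) (hsq j).flip inferInstance
    · obtain ⟨j, y, hy⟩ := hcov (pullback.snd g f x)
      obtain ⟨z, hz⟩ := exists_preimage_of_isPullback (hsq j) x y hy.symm
      exact ⟨j, z, hz⟩

theorem isHCover_proper {X Y : Scheme.{u}} (f : Y ⟶ X) [IsProper f] [Surjective f]
    [LocallyOfFinitePresentation f] : HTop.IsHCover (PreZeroHypercover.singleton.{w} f) := by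
  refine ⟨fun _ => ‹LocallyOfFinitePresentation f›,
    (isVCover_singleton_iff.{w, w} f).mpr ((hasValLift_singleton_iff f).mpr fun W g z' z hz => ?_)⟩
  obtain ⟨w', hw'⟩ := (inferInstance : Surjective (pullback.fst g f)).surj z'
  obtain ⟨w, hw, hwz⟩ := hz.mem_closed (s := pullback.fst g f '' closure {w'})
    ((pullback.fst g f).isClosedMap _ isClosed_closure) ⟨w', subset_closure rfl, hw'⟩
  exact ⟨w', w, specializes_iff_mem_closure.mpr hw, hw', hwz⟩

theorem isVCover_of_refines {E : PreZeroHypercover.{w} T} {F : PreZeroHypercover.{w'} T}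
    (hF : HTop.IsVCover F) (φ : F.Hom E) : HTop.IsVCover E := fun O => by
  obtain ⟨G, hG, hGF⟩ := hF O
  exact ⟨G, hG, hGF.of_hom φ⟩

theorem isVCover_sigmaDesc_iff (E : PreZeroHypercover.{u} T) :
    HTop.IsVCover E ↔ HTop.IsVCover (PreZeroHypercover.singleton.{w} (Sigma.desc E.f)) := by
  constructor
  · exact fun h => isVCover_of_refines h ⟨fun _ => PUnit.unit, fun i => Sigma.ι E.X i, fun i => Sigma.ι_desc _ _⟩
  · intro h
    exact isVCover_of_refines (isVCover_bind h fun _ => isVCover_openCover (sigmaOpenCover E.X))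
      ⟨fun p => p.2, fun p => 𝟙 _, fun p => by
        change 𝟙 _ ≫ E.f p.2 = Sigma.ι E.X p.2 ≫ Sigma.desc E.f
        rw [Category.id_comp, Sigma.ι_desc]⟩

theorem isHCover_sigmaDesc_iff (E : PreZeroHypercover.{u} T) (hE : ∀ i, LocallyOfFinitePresentation (E.f i)) :
    HTop.IsHCover E ↔ HTop.IsHCover (PreZeroHypercover.singleton.{w} (Sigma.desc E.f)) :=
  ⟨fun h => ⟨fun _ => IsZariskiLocalAtSource.sigmaDesc hE, (isVCover_sigmaDesc_iff E).mp h.2⟩,
    fun h => ⟨hE, (isVCover_sigmaDesc_iff E).mpr h.2⟩⟩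

variable {F : Scheme.{u}ᵒᵖ ⥤ Type w}

theorem isSheafFor_of_singleton_trans (h₁ : Presieve.IsSheaf Scheme.zariskiTopology F) {P V : Scheme.{u}}
    (p : P ⟶ V) (hp : Presieve.IsSheafFor F (Presieve.singleton p)) (B : Sieve P)
    (hB : B ∈ Scheme.zariskiTopology P) (S : Sieve V) (hS : ∀ ⦃W⦄ (q : W ⟶ P), B q → S (q ≫ p))
    (hS' : ∀ ⦃W⦄ (h : W ⟶ V), S h → ∃ q : W ⟶ P, B q ∧ q ≫ p = h) :
    Presieve.IsSheafFor F (S : Presieve V) := by
  rw [Presieve.isSheafFor_singleton] at hp
  intro s hs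
  have hs' := Presieve.compatible_iff_sieveCompatible s |>.mp hs
  have scongr : ∀ {W : Scheme.{u}} {q₁ q₂ : W ⟶ V} (_ : q₁ = q₂) (a : S q₁) (b : S q₂), s q₁ a = s q₂ b := by
    rintro W q₁ _ rfl a b; rfl
  let t : Presieve.FamilyOfElements F (B : Presieve P) := fun W q hq => s (q ≫ p) (hS q hq)
  have ht : t.Compatible := by
    intro W₁ W₂ W k₁ k₂ q₁ q₂ hq₁ hq₂ hk
    exact hs k₁ k₂ (hS q₁ hq₁) (hS q₂ hq₂) (by rw [reassoc_of% hk])
  obtain ⟨x, hx, -⟩ := h₁ B hB t ht
  obtain ⟨v, hv, huniq⟩ := hp x (fun {W} a b hab => by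
    refine (h₁ (B.pullback a ⊓ B.pullback b) (Scheme.zariskiTopology.intersection_covering
      (Scheme.zariskiTopology.pullback_stable a hB) (Scheme.zariskiTopology.pullback_stable b hB))).isSeparatedFor.ext
      fun W' k hk => ?_
    rw [← FunctorToTypes.map_comp_apply, ← FunctorToTypes.map_comp_apply, ← op_comp, ← op_comp,
      hx (k ≫ a) hk.1, hx (k ≫ b) hk.2]
    exact scongr (by rw [Category.assoc, Category.assoc, hab]) _ _)
  refine ⟨v, fun W h hh => ?_, fun v' hv' => huniq v' ?_⟩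
  · obtain ⟨q, hq, rfl⟩ := hS' h hh
    rw [op_comp, FunctorToTypes.map_comp_apply, hv]
    exact hx q hq
  · refine (h₁ B hB).isSeparatedFor.ext fun W q hq => ?_
    rw [← FunctorToTypes.map_comp_apply, ← op_comp, hv' _ (hS q hq), hx q hq]

theorem isSheafFor_standardPh_pullback (h₁ : Presieve.IsSheaf Scheme.zariskiTopology F)
    (h₂ : ∀ (U V : Scheme.{u}) (f : V ⟶ U), IsProper f → Surjective f → Presieve.IsSheafFor F (Presieve.singleton f))
    {E : PreZeroHypercover.{w'} T} (hE : HTop.IsStandardPh E) {V : Scheme.{u}} (g : V ⟶ T) :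
    Presieve.IsSheafFor F (E.pullback₂ g).presieve₀ := by
  obtain ⟨Y, f, ι, hf, hs, hι, hcomp, hcov⟩ := hE.exists_proper
  let κ : ∀ j, pullback (E.f j) g ⟶ pullback f g := fun j =>
    pullback.lift (pullback.fst _ _ ≫ ι j) (pullback.snd _ _) (by rw [Category.assoc, hcomp, pullback.condition])
  have hκ : ∀ j, κ j ≫ pullback.snd f g = pullback.snd (E.f j) g := fun j => pullback.lift_snd _ _ _
  have hsq : ∀ j, IsPullback (κ j) (pullback.fst (E.f j) g) (pullback.fst f g) (ι j) := fun j => by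
    refine IsPullback.of_right ?_ (pullback.lift_fst _ _ _) (IsPullback.of_hasPullback f g).flip
    rw [hκ, hcomp]
    exact (IsPullback.of_hasPullback (E.f j) g).flip
  rw [Presieve.isSheafFor_iff_generate]
  refine isSheafFor_of_singleton_trans h₁ (pullback.snd f g) (h₂ _ _ _ inferInstance inferInstance)
    (Sieve.generate (Presieve.ofArrows _ κ)) (Precoverage.generate_mem_toGrothendieck ?_) _ ?_ ?_
  · rw [Scheme.ofArrows_mem_precoverage_iff]
    refine ⟨fun x => ?_, fun j => ?_⟩
    · obtain ⟨j, y, hy⟩ := hcov (pullback.fst f g x)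
      obtain ⟨z, hz⟩ := exists_preimage_of_isPullback (hsq j) x y hy.symm
      exact ⟨j, z, hz⟩
    · haveI := hι j
      exact MorphismProperty.of_isPullback (P := @IsOpenImmersion) (hsq j).flip inferInstance
  · rintro W _ ⟨_, a, _, ⟨j⟩, rfl⟩
    exact ⟨_, a, _, ⟨j⟩, by rw [Category.assoc]; exact congrArg (a ≫ ·) (hκ j).symm⟩
  · rintro W _ ⟨_, a, _, ⟨j⟩, rfl⟩
    exact ⟨a ≫ κ j, ⟨_, a, _, ⟨j⟩, rfl⟩, by rw [Category.assoc]; exact congrArg (a ≫ ·) (hκ j)⟩

theorem isPhSheaf_of_zariski_of_proper (h₁ : Presieve.IsSheaf Scheme.zariskiTopology F)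
    (h₂ : ∀ (U V : Scheme.{u}) (f : V ⟶ U), IsProper f → Surjective f → Presieve.IsSheafFor F (Presieve.singleton f)) :
    HTop.IsPhSheaf F := by
  intro X R hR
  obtain ⟨E, hE, rfl⟩ := PreZeroHypercoverFamily.mem_precoverage_iff.mp hR
  have key : ∀ {Z : Scheme.{u}} [IsAffine Z] (g : Z ⟶ X) [IsOpenImmersion g],
      Presieve.IsSheafFor F (E.pullback₂ g).presieve₀ := by
    intro Z _ g _
    obtain ⟨G₀, hG₀, hGE⟩ := hE.2 ⟨g.opensRange, isAffineOpen_opensRange g⟩
    let e := IsOpenImmersion.lift g.opensRange.ι g (by rw [Scheme.Opens.range_ι]; rfl)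
    have he : e ≫ g.opensRange.ι = g := IsOpenImmersion.lift_fac _ _ _
    rw [Presieve.isSheafFor_iff_generate]
    apply Presieve.isSheafFor_subsieve_aux (S := .generate (G₀.pullback₂ e).presieve₀)
    · rintro W h ⟨Y, a, b, ⟨j⟩, rfl⟩
      obtain ⟨i, k, hk⟩ := hGE j
      refine ⟨_, a ≫ pullback.lift (pullback.fst (G₀.f j) e ≫ k) (pullback.snd (G₀.f j) e) ?_, _, ⟨i⟩, ?_⟩
      · exact (Category.assoc _ _ _).trans ((congrArg (pullback.fst _ _ ≫ ·) hk).trans ((Category.assoc _ _ _).symm.trans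
          ((congrArg (· ≫ _) pullback.condition).trans ((Category.assoc _ _ _).trans (congrArg (pullback.snd _ _ ≫ ·) he)))))
      · rw [Category.assoc]
        exact congrArg (a ≫ ·) (pullback.lift_snd _ _ _)
    · rw [← Presieve.isSheafFor_iff_generate]
      exact isSheafFor_standardPh_pullback h₁ h₂ hG₀ e
    · intro Y f _
      have := isSheafFor_standardPh_pullback h₁ h₂ hG₀ (f ≫ e)
      rw [Presieve.isSheafFor_iff_generate] at this
      refine fun s x y hx hy => this.isSeparatedFor.ext fun W h hh => ?_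
      obtain ⟨Y', a, b, ⟨j⟩, rfl⟩ := hh
      have hmem : (Sieve.generate (G₀.pullback₂ e).presieve₀).pullback f (a ≫ pullback.snd (G₀.f j) (f ≫ e)) :=
        ⟨_, a ≫ pullback.lift (pullback.fst _ _) (pullback.snd _ _ ≫ f) (pullback.condition.trans (Category.assoc _ _ _).symm),
          _, ⟨j⟩, by
            rw [Category.assoc]
            change a ≫ pullback.lift _ _ _ ≫ pullback.snd (G₀.f j) e = _
            rw [pullback.lift_snd, Category.assoc]⟩
      exact (hx _ hmem).trans (hy _ hmem).symm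
  refine X.affineOneHypercover.isSheafFor_of_pullback h₁ (fun i => ?_) (fun i j k => ?_)
  · rw [← Sieve.pullbackArrows_comm, ← Presieve.ofArrows_pullback, ← Presieve.isSheafFor_iff_generate]
    exact key (X.affineCover.f i)
  · rw [← Sieve.pullbackArrows_comm, ← Presieve.ofArrows_pullback, ← Presieve.isSeparatedFor_iff_generate]
    haveI : IsAffine (X.affineOneHypercover.Y k) :=
      inferInstanceAs (IsAffine ((pullback (X.affineCover.f i) (X.affineCover.f j)).affineCover.X k))
    haveI : IsOpenImmersion (X.affineOneHypercover.p₁ k ≫ X.affineOneHypercover.f i) :=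
      inferInstanceAs (IsOpenImmersion
        (((pullback (X.affineCover.f i) (X.affineCover.f j)).affineCover.f k ≫ pullback.fst _ _) ≫ X.affineCover.f i))
    exact (key (X.affineOneHypercover.p₁ k ≫ X.affineOneHypercover.f i)).isSeparatedFor

end VCovLib
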