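import Groth.Agent.VCovLib.Ph
import Groth.Prelude.Def_SGA1

/-!
# fpqc coverings, V coverings and submersions
-/

set_option autoImplicit false

universe w w' u

open CategoryTheory CategoryTheory.Limits AlgebraicGeometry TopologicalSpace

namespace VCovLib

variable {T U Z : Scheme.{u}}

theorem exists_mem_range_of_qc (E : PreZeroHypercover.{w} T) [QuasiCompactCover E] (t : T) :
    ∃ i, t ∈ Set.range (E.f i) := by
  obtain ⟨O, hO, ht, -⟩ := exists_isAffineOpen_mem_and_subset (x := t) (U := ⊤) trivial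
  obtain ⟨n, i, V, -, hV⟩ := QuasiCompactCover.exists_isAffineOpen_of_isCompact E hO.isCompact
  obtain ⟨k, b, -, hb⟩ := Set.mem_iUnion.mp (hV.ge ht)
  exact ⟨i k, b, hb⟩

theorem mem_fpqc_iff (E : PreZeroHypercover.{w} T) :
    E.presieve₀ ∈ Scheme.fpqcPrecoverage T ↔ QuasiCompactCover E ∧ ∀ i, Flat (E.f i) := by
  refine ⟨fun h => ⟨Scheme.presieve₀_mem_qcPrecoverage_iff.mp h.1,
    ((Scheme.presieve₀_mem_precoverage_iff E).mp h.2).2⟩, fun ⟨h₁, h₂⟩ => ?_⟩
  exact ⟨Scheme.presieve₀_mem_qcPrecoverage_iff.mpr h₁,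
    (Scheme.presieve₀_mem_precoverage_iff E).mpr ⟨exists_mem_range_of_qc E, h₂⟩⟩

theorem mem_fpqc_sigmaDesc_iff (E : PreZeroHypercover.{u} T) :
    E.presieve₀ ∈ Scheme.fpqcPrecoverage T ↔ Presieve.singleton (Sigma.desc E.f) ∈ Scheme.fpqcPrecoverage T := by
  rw [← PreZeroHypercover.presieve₀_singleton.{u}, mem_fpqc_iff, mem_fpqc_iff]
  constructor
  · rintro ⟨h, hf⟩
    exact ⟨QuasiCompactCover.of_hom (𝒰 := PreZeroHypercover.singleton.{u} (Sigma.desc E.f)) (𝒱 := E)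
      ⟨fun _ => PUnit.unit, fun i => Sigma.ι E.X i, fun i => Sigma.ι_desc _ _⟩,
      fun _ => IsZariskiLocalAtSource.sigmaDesc hf⟩
  · rintro ⟨h, hf⟩
    have hflat : Flat (Sigma.desc E.f) := hf PUnit.unit
    let G : ∀ x, PreZeroHypercover.{u} ((PreZeroHypercover.singleton.{u} (Sigma.desc E.f)).X x) := fun _ =>
      (sigmaOpenCover E.X).toPreZeroHypercover
    haveI : ∀ x, QuasiCompactCover (G x) := fun _ =>
      inferInstanceAs (QuasiCompactCover (sigmaOpenCover E.X).toPreZeroHypercover)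
    refine ⟨QuasiCompactCover.of_hom (𝒰 := E)
      (𝒱 := (PreZeroHypercover.singleton.{u} (Sigma.desc E.f)).bind G)
      ⟨fun p => p.2, fun p => 𝟙 _, fun p => ?_⟩, fun i => ?_⟩
    · change 𝟙 _ ≫ E.f p.2 = Sigma.ι E.X p.2 ≫ Sigma.desc E.f
      rw [Category.id_comp, Sigma.ι_desc]
    · rw [← Sigma.ι_desc E.f i]
      infer_instance

theorem quasiCompactCover_of_finite (F : PreZeroHypercover.{w} T) [IsAffine T] [Finite F.I₀]
    [∀ j, IsAffine (F.X j)] (hF : ∀ t : T, ∃ (j : F.I₀) (x : F.X j), F.f j x = t) : QuasiCompactCover F := by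
  refine ⟨fun {O} hO => ?_⟩
  exact .of_finite_of_isSpectralMap (fun j => (F.f j).isSpectralMap) (fun t _ => hF t) O.2 hO.isCompact

theorem mem_fpqc_of_refined (E : PreZeroHypercover.{w} T) (hflat : ∀ i, Flat (E.f i))
    (href : ∀ (Z : Scheme.{u}) [IsAffine Z] (h : Z ⟶ T), ∃ F : PreZeroHypercover.{0} Z, Finite F.I₀ ∧
      (∀ j, IsAffine (F.X j)) ∧ (∀ z : Z, ∃ (j : F.I₀) (x : F.X j), F.f j x = z) ∧ HTop.RefinesOver h F E) :
    E.presieve₀ ∈ Scheme.fpqcPrecoverage T := by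
  rw [mem_fpqc_iff]
  refine ⟨?_, hflat⟩
  choose F hF₁ hF₂ hF₃ hF₄ using fun k => href (T.affineCover.X k) (T.affineCover.f k)
  choose s q hq using hF₄
  let G : ∀ k, PreZeroHypercover.{u} (T.affineCover.X k) := fun k => (F k).reindex (Equiv.ulift.{u, 0} (α := (F k).I₀))
  haveI : ∀ k, QuasiCompactCover (G k) := fun k => by
    haveI := hF₁ k
    haveI : Finite (G k).I₀ := inferInstanceAs (Finite (ULift.{u} (F k).I₀))
    haveI : ∀ j, IsAffine ((G k).X j) := fun j => hF₂ k j.down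
    exact quasiCompactCover_of_finite (G k) fun t => by
      obtain ⟨j, x, hx⟩ := hF₃ k t
      exact ⟨⟨j⟩, x, hx⟩
  exact QuasiCompactCover.of_hom (𝒰 := E) (𝒱 := T.affineCover.toPreZeroHypercover.bind G)
    ⟨fun p => s p.1 p.2.down, fun p => q p.1 p.2.down, fun p => hq p.1 p.2.down⟩

theorem mem_fpqc_of_local (E : PreZeroHypercover.{u} T) (hflat : ∀ i, Flat (E.f i))
    (𝒱 : Scheme.Cover.{w} Scheme.fpqcPrecoverage T)
    (hloc : ∀ j, (E.pullback₁ (𝒱.f j)).presieve₀ ∈ Scheme.fpqcPrecoverage (𝒱.X j)) :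
    E.presieve₀ ∈ Scheme.fpqcPrecoverage T := by
  rw [mem_fpqc_iff]
  refine ⟨?_, hflat⟩
  haveI : QuasiCompactCover 𝒱.toPreZeroHypercover := ((mem_fpqc_iff _).mp 𝒱.mem₀).1
  let V := QuasiCompactCover.ulift 𝒱.toPreZeroHypercover
  let φ := QuasiCompactCover.uliftHom 𝒱.toPreZeroHypercover
  haveI : ∀ j, QuasiCompactCover (E.pullback₁ (V.f j)) := fun j => by
    haveI : QuasiCompactCover (E.pullback₁ (𝒱.f (φ.s₀ j))) := ((mem_fpqc_iff _).mp (hloc _)).1
    refine QuasiCompactCover.of_hom (𝒰 := E.pullback₁ (V.f j))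
      (𝒱 := (E.pullback₁ (𝒱.f (φ.s₀ j))).pullback₁ (φ.h₀ j))
      ⟨id, fun i => pullback.lift (pullback.fst _ _) (pullback.snd _ _ ≫ pullback.snd _ _) ?_,
        fun i => pullback.lift_fst _ _ _⟩
    rw [← φ.w₀ j, Category.assoc]
    refine (pullback.condition_assoc (f := φ.h₀ j) (g := pullback.fst (𝒱.f (φ.s₀ j)) (E.f i)) _).trans ?_
    exact (congrArg (pullback.snd _ _ ≫ ·) pullback.condition).trans (Category.assoc _ _ _).symm
  exact QuasiCompactCover.of_hom (𝒰 := E) (𝒱 := V.bind fun j => E.pullback₁ (V.f j))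
    ⟨fun p => p.2, fun p => pullback.snd _ _, fun p => pullback.condition.symm⟩

theorem quasiCompactCover_iff_nhds [QuasiSeparatedSpace T] (E : PreZeroHypercover.{w} T) :
    QuasiCompactCover E ↔ ∀ t : T, ∃ (n : ℕ) (i : Fin n → E.I₀) (V : ∀ j, (E.X (i j)).Opens),
      (∀ j, IsCompact (V j : Set (E.X (i j)))) ∧
        (⋃ j, ⇑(E.f (i j)) '' (V j : Set (E.X (i j)))) ∈ nhds t := by
  constructor
  · intro h t
    obtain ⟨O, hO, ht, -⟩ := exists_isAffineOpen_mem_and_subset (x := t) (U := ⊤) trivial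
    obtain ⟨n, i, V, hV, hcov⟩ := QuasiCompactCover.exists_isAffineOpen_of_isCompact E hO.isCompact
    exact ⟨n, i, V, fun j => (hV j).isCompact, hcov ▸ O.2.mem_nhds ht⟩
  · intro h
    refine ⟨fun {O} hO => ?_⟩
    choose n i V hV hN using h
    obtain ⟨s, hs⟩ := hO.isCompact.elim_finite_subcover
      (fun t : T => interior (⋃ j, ⇑(E.f (i t j)) '' (V t j : Set (E.X (i t j))))) (fun _ => isOpen_interior)
      fun t _ => Set.mem_iUnion.mpr ⟨t, mem_interior_iff_mem_nhds.mpr (hN t)⟩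
    refine .of_finite (κ := Σ t : s, Fin (n t.1)) (fun p => i p.1.1 p.2)
      (fun p => V p.1.1 p.2 ⊓ E.f (i p.1.1 p.2) ⁻¹ᵁ O) (fun p => ?_) ?_
    · haveI := isCompact_iff_compactSpace.mp (hV p.1.1 p.2)
      haveI : CompactSpace (V p.1.1 p.2 : Scheme.{u}) := this
      let g := (V p.1.1 p.2).ι ≫ E.f (i p.1.1 p.2)
      haveI : QuasiCompact g := inferInstance
      have := (g.isCompact_preimage hO.isCompact).image (V p.1.1 p.2).ι.continuous
      convert this using 1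
      ext x
      constructor
      · exact fun hx => ⟨⟨x, hx.1⟩, hx.2, rfl⟩
      · rintro ⟨y, hy, rfl⟩
        exact ⟨y.2, hy⟩
    · apply Set.Subset.antisymm
      · exact Set.iUnion_subset fun p => by rintro _ ⟨x, hx, rfl⟩; exact hx.2
      · intro t ht
        obtain ⟨t', ht', htt'⟩ := Set.mem_iUnion₂.mp (hs ht)
        obtain ⟨j, x, hx, rfl⟩ := Set.mem_iUnion.mp (interior_subset htt')
        exact Set.mem_iUnion.mpr ⟨⟨⟨t', ht'⟩, j⟩, x, ⟨hx, ht⟩, rfl⟩

theorem isStandardV_of_flat [IsAffine T] (E : PreZeroHypercover.{w} T) (hfin : Finite E.I₀)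
    (haff : ∀ j, IsAffine (E.X j)) (hflat : ∀ j, Flat (E.f j))
    (hsurj : ∀ t : T, ∃ (j : E.I₀) (x : E.X j), E.f j x = t) : HTop.IsStandardV E where
  isAffine := inferInstance
  finite_index := hfin
  isAffine_obj := haff
  lift := fun V _ _ g => by
    obtain ⟨k, b, hb⟩ := hsurj (g (closed V))
    haveI := hflat k
    obtain ⟨x, hx, -⟩ := Scheme.Pullback.exists_preimage_pullback (f := g) (g := E.f k) (closed V) b hb.symm
    obtain ⟨x', hx', hgx'⟩ := (Flat.generalizingMap (pullback.fst g (E.f k)))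
      (show gen V ⤳ pullback.fst g (E.f k) x from hx.symm ▸ gen_specializes_closed V)
    obtain ⟨W, h₁, h₂, φ, hφ, l, hl, -, -⟩ := exists_extVal (pullback.fst g (E.f k)) hx' hgx' hx
    exact ⟨W, h₁, h₂, φ, hφ, k, l ≫ pullback.snd g (E.f k), by
      rw [Category.assoc, ← pullback.condition, ← Category.assoc, hl]⟩

theorem isClosed_image_of_stable {C D : Scheme.{u}} [IsAffine C] [IsAffine D] (p : C ⟶ D) {S : Set C}
    (hS : IsClosed S) (h : StableUnderSpecialization (p '' S)) : IsClosed (p '' S) := by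
  obtain ⟨φ, hφ⟩ := Spec.map_surjective (C.isoSpec.inv ≫ p ≫ D.isoSpec.hom)
  let e := D.isoSpec.hom.homeomorph
  have key : Spec.map φ '' (C.isoSpec.inv ⁻¹' S) = e '' (p '' S) := by
    rw [hφ, Set.image_image]
    ext y
    constructor
    · rintro ⟨x, hx, rfl⟩
      exact ⟨_, hx, rfl⟩
    · rintro ⟨x, hx, rfl⟩
      exact ⟨C.isoSpec.hom x, by
        change C.isoSpec.inv (C.isoSpec.hom x) ∈ S
        rwa [← Scheme.Hom.comp_apply, Iso.hom_inv_id], by
        rw [← Scheme.Hom.comp_apply, Iso.hom_inv_id_assoc]; rfl⟩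
  refine e.isClosed_image.mp (key ▸ PrimeSpectrum.isClosed_image_of_stableUnderSpecialization φ.hom _
    (hS.preimage C.isoSpec.inv.continuous) ?_)
  change StableUnderSpecialization (Spec.map φ '' _)
  rw [key, e.image_eq_preimage_symm]
  exact fun a b hab ha => h (hab.map e.symm.continuous) ha

theorem isQuotientMap_of_isVCover {X Y : Scheme.{u}} (f : X ⟶ Y)
    (h : HTop.IsVCover (PreZeroHypercover.singleton.{w} f)) : Topology.IsQuotientMap f := by
  have lift : ∀ (O : Y.affineOpens) (a b : O.1), a ⤳ b → ∃ (F : PreZeroHypercover.{0} (O.1 : Scheme.{u})),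
      HTop.IsStandardV F ∧ HTop.RefinesOver O.1.ι F (PreZeroHypercover.singleton.{w} f) ∧
      ∃ (j : F.I₀) (x' x : F.X j), x' ⤳ x ∧ F.f j x' = a ∧ F.f j x = b := by
    intro O a b hab
    obtain ⟨F, hF, hFE⟩ := h O
    obtain ⟨V, _, _, l, hla, hlb⟩ := exists_val (O.1 : Scheme.{u}) hab
    obtain ⟨W, h₁, h₂, φ, hφ, j, m, hm⟩ := hF.lift V l
    refine ⟨F, hF, hFE, j, m (gen W), m (closed W), (gen_specializes_closed W).map m.continuous, ?_, ?_⟩
    · rw [← Scheme.Hom.comp_apply, hm, Scheme.Hom.comp_apply, gen_map hφ.1, hla]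
    · rw [← Scheme.Hom.comp_apply, hm, Scheme.Hom.comp_apply, closed_map hφ.2, hlb]
  refine (Topology.isQuotientMap_iff_isClosed).mpr ⟨fun y => ?_, fun s => ⟨fun hs => hs.preimage f.continuous, fun hs => ?_⟩⟩
  · obtain ⟨O, hO, hy, -⟩ := exists_isAffineOpen_mem_and_subset (x := y) (U := ⊤) trivial
    obtain ⟨F, hF, hFE, j, x', x, -, -, hx⟩ := lift ⟨O, hO⟩ ⟨y, hy⟩ ⟨y, hy⟩ specializes_rfl
    obtain ⟨i, q, hq⟩ := hFE j
    refine ⟨q x, ?_⟩
    have := congrArg (fun k => (k : F.X j ⟶ Y) x) hq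
    exact this.trans (congrArg Subtype.val hx)
  · rw [← isOpen_compl_iff, isOpen_iff_forall_mem_open]
    intro y hy
    obtain ⟨O, hO, hyO, -⟩ := exists_isAffineOpen_mem_and_subset (x := y) (U := ⊤) trivial
    obtain ⟨F, hF, hFE⟩ := h ⟨O, hO⟩
    choose i q hq using hFE
    haveI := hF.finite_index
    haveI := hF.isAffine_obj
    haveI : IsAffine (O : Scheme.{u}) := hO
    let p := Sigma.desc F.f
    let q' := Sigma.desc q
    have hpq : q' ≫ f = p ≫ O.ι := Sigma.hom_ext _ _ fun j => by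
      simp only [q', p, Sigma.ι_desc_assoc]
      exact hq j
    have hsurj : ∀ a b : (O : Scheme.{u}), a ⤳ b → ∃ c' c : ↑(∐ F.X), c' ⤳ c ∧ p c' = a ∧ p c = b := by
      intro a b hab
      obtain ⟨V, _, _, l, hla, hlb⟩ := exists_val (O : Scheme.{u}) hab
      obtain ⟨W, h₁, h₂, φ, hφ, j, m, hm⟩ := hF.lift V l
      have hm' : (m ≫ Sigma.ι F.X j) ≫ p = Spec.map φ ≫ l := by rw [Category.assoc, Sigma.ι_desc, hm]
      refine ⟨(m ≫ Sigma.ι F.X j) (gen W), (m ≫ Sigma.ι F.X j) (closed W),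
        (gen_specializes_closed W).map (Scheme.Hom.continuous _), ?_, ?_⟩
      · rw [← Scheme.Hom.comp_apply, hm', Scheme.Hom.comp_apply, gen_map hφ.1, hla]
      · rw [← Scheme.Hom.comp_apply, hm', Scheme.Hom.comp_apply, closed_map hφ.2, hlb]
    have him : p '' (q' ⁻¹' (f ⁻¹' s)) = O.ι ⁻¹' s := by
      have hpre : q' ⁻¹' (f ⁻¹' s) = p ⁻¹' (O.ι ⁻¹' s) := by
        ext c
        simp only [Set.mem_preimage, ← Scheme.Hom.comp_apply, hpq]
      rw [hpre]
      exact Set.image_preimage_eq _ fun a => by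
        obtain ⟨c', c, -, -, hc⟩ := hsurj a a specializes_rfl
        exact ⟨c, hc⟩
    have hcl : IsClosed (O.ι ⁻¹' s) := by
      rw [← him]
      refine isClosed_image_of_stable p (hs.preimage q'.continuous) ?_
      rw [him]
      intro a b hab ha
      obtain ⟨c', c, hc, rfl, rfl⟩ := hsurj a b hab
      have hc' : c' ∈ q' ⁻¹' (f ⁻¹' s) := by
        simp only [Set.mem_preimage, ← Scheme.Hom.comp_apply, hpq]
        exact ha
      have := hc.mem_closed (hs.preimage q'.continuous) hc'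
      simp only [Set.mem_preimage, ← Scheme.Hom.comp_apply, hpq] at this
      exact this
    exact ⟨O.ι '' (O.ι ⁻¹' s)ᶜ, by rintro _ ⟨a, ha, rfl⟩; exact ha,
      O.ι.isOpenEmbedding.isOpenMap _ hcl.isOpen_compl, ⟨y, hyO⟩, hy, rfl⟩

theorem univSubmersive_of_isVCover {X Y : Scheme.{u}} (f : X ⟶ Y)
    (h : HTop.IsVCover (PreZeroHypercover.singleton.{w} f)) : SGA1.UnivSubmersive f := by
  intro X' Y' i₁ i₂ f' hsq
  exact isQuotientMap_of_isVCover.{w} f' (isVCover_of_refines (isVCover_pullback₁ i₂ h)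
    ⟨fun _ => PUnit.unit, fun _ => hsq.isoPullback.inv, fun _ => hsq.isoPullback_inv_fst⟩)

end VCovLib
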