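import Groth.Prelude.Def_HTop
import Mathlib.AlgebraicGeometry.ValuativeCriterion
import Mathlib.AlgebraicGeometry.Morphisms.UniversallyOpen
import Mathlib.AlgebraicGeometry.Sites.Fpqc
import Mathlib.RingTheory.Valuation.LocalSubring

/-!
# V coverings of schemes
-/

set_option autoImplicit false

universe w w' u

open CategoryTheory CategoryTheory.Limits AlgebraicGeometry TopologicalSpace

namespace VCovLib

variable {T U Z : Scheme.{u}}

/-- The generic point of the spectrum of a domain. -/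
abbrev gen (V : CommRingCat.{u}) [IsDomain V] : Spec V := (⊥ : PrimeSpectrum V)

/-- The closed point of the spectrum of a local ring. -/
abbrev closed (V : CommRingCat.{u}) [IsLocalRing V] : Spec V := IsLocalRing.closedPoint V

theorem gen_map {V W : CommRingCat.{u}} [IsDomain V] [IsDomain W] {φ : V ⟶ W}
    (h : Function.Injective φ.hom) : Spec.map φ (gen W) = gen V := by
  apply PrimeSpectrum.ext
  change Ideal.comap φ.hom ⊥ = ⊥
  rw [← RingHom.ker_eq_comap_bot, RingHom.injective_iff_ker_eq_bot φ.hom |>.mp h]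

theorem closed_map {V W : CommRingCat.{u}} [IsLocalRing V] [IsLocalRing W] {φ : V ⟶ W}
    (h : IsLocalHom φ.hom) : Spec.map φ (closed W) = closed V :=
  IsLocalRing.comap_closedPoint φ.hom

theorem gen_specializes_closed (V : CommRingCat.{u}) [IsDomain V] [IsLocalRing V] : gen V ⤳ closed V :=
  (PrimeSpectrum.le_iff_specializes _ _).mp bot_le

theorem range_subset_of_closed {V : CommRingCat.{u}} [IsLocalRing V] (g : Spec V ⟶ T) {O : T.Opens}
    (h : g (closed V) ∈ O) : Set.range g ⊆ (O : Set T) := by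
  rintro _ ⟨y, rfl⟩
  exact ((IsLocalRing.specializes_closedPoint (R := V) y).map g.continuous).mem_open O.2 h

/-- A morphism from a valuation ring realizing a given specialization. -/
theorem exists_val (X : Scheme.{u}) {x' x : X} (h : x' ⤳ x) :
    ∃ (W : CommRingCat.{u}) (_ : IsDomain W) (_ : ValuationRing W) (l : Spec W ⟶ X),
      l (gen W) = x' ∧ l (closed W) = x := by
  let r : X.presheaf.stalk x →+* X.residueField x' :=
    (X.presheaf.stalkSpecializes h ≫ X.residue x').hom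
  obtain ⟨A, hA, hloc⟩ := IsLocalRing.exists_factor_valuationRing r
  let ψ : X.presheaf.stalk x ⟶ CommRingCat.of A := CommRingCat.ofHom (r.codRestrict A.toSubring hA)
  refine ⟨CommRingCat.of A, inferInstanceAs (IsDomain A), inferInstanceAs (ValuationRing A),
    Spec.map ψ ≫ X.fromSpecStalk x, ?_, ?_⟩
  · have e : Spec.map (CommRingCat.ofHom (algebraMap A (X.residueField x'))) ≫ Spec.map ψ ≫ X.fromSpecStalk x =
        X.fromSpecResidueField x' := by
      rw [Scheme.fromSpecResidueField, ← Scheme.SpecMap_stalkSpecializes_fromSpecStalk h, ← Spec.map_comp_assoc,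
        ← Spec.map_comp_assoc]
      rfl
    have hg : Spec.map (CommRingCat.ofHom (algebraMap A (X.residueField x'))) (closed (X.residueField x')) =
        gen (CommRingCat.of A) := by
      apply PrimeSpectrum.ext
      change Ideal.comap (algebraMap A (X.residueField x')) (IsLocalRing.maximalIdeal _) = ⊥
      rw [IsLocalRing.maximalIdeal_eq_bot, ← RingHom.ker_eq_comap_bot,
        RingHom.injective_iff_ker_eq_bot _ |>.mp Subtype.val_injective]
    rw [← hg, ← Scheme.Hom.comp_apply, e]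
    exact Scheme.fromSpecResidueField_apply x' _
  · rw [Scheme.Hom.comp_apply]
    have : Spec.map ψ (closed (CommRingCat.of A)) = IsLocalRing.closedPoint (X.presheaf.stalk x) :=
      IsLocalRing.comap_closedPoint (S := A) (r.codRestrict A.toSubring hA)
    rw [this, Scheme.fromSpecStalk_closedPoint]

/-- Specializations in a scheme over a valuation ring, from generic to closed point, give extensions. -/
theorem exists_extVal {V : CommRingCat.{u}} [IsDomain V] [ValuationRing V] {X : Scheme.{u}}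
    (p : X ⟶ Spec V) {x' x : X} (h : x' ⤳ x) (h' : p x' = gen V) (hx : p x = closed V) :
    ∃ (W : CommRingCat.{u}) (_ : IsDomain W) (_ : ValuationRing W) (φ : V ⟶ W),
      HTop.IsExtVal V W φ ∧ ∃ l : Spec W ⟶ X, l ≫ p = Spec.map φ ∧ l (gen W) = x' ∧ l (closed W) = x := by
  obtain ⟨W, hW₁, hW₂, l, hl', hl⟩ := exists_val X h
  obtain ⟨φ, hφ⟩ := Spec.map_surjective (l ≫ p)
  have e1 : Spec.map φ (gen W) = gen V := by rw [hφ, Scheme.Hom.comp_apply, hl', h']
  have e2 : Spec.map φ (closed W) = closed V := by rw [hφ, Scheme.Hom.comp_apply, hl, hx]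
  refine ⟨W, hW₁, hW₂, φ, ⟨?_, ?_⟩, l, hφ.symm, hl', hl⟩
  · rw [RingHom.injective_iff_ker_eq_bot, RingHom.ker_eq_comap_bot]
    exact congrArg PrimeSpectrum.asIdeal e1
  · exact ((IsLocalRing.local_hom_TFAE φ.hom).out 0 4).mpr (congrArg PrimeSpectrum.asIdeal e2)

theorem hasValLift_pullback₁ {E : PreZeroHypercover.{w} T} (hE : HTop.HasValLift E) (g : U ⟶ T) :
    HTop.HasValLift (E.pullback₁ g) := by
  intro V _ _ h
  obtain ⟨W, h₁, h₂, φ, hφ, j, l, hl⟩ := hE V (h ≫ g)
  exact ⟨W, h₁, h₂, φ, hφ, j, pullback.lift (Spec.map φ ≫ h) l (by rw [hl, Category.assoc]),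
    pullback.lift_fst _ _ _⟩

theorem isExtVal_comp {V W W' : CommRingCat.{u}} [IsDomain V] [ValuationRing V] [IsDomain W] [ValuationRing W]
    [IsDomain W'] [ValuationRing W'] {φ : V ⟶ W} {ψ : W ⟶ W'} (h₁ : HTop.IsExtVal V W φ)
    (h₂ : HTop.IsExtVal W W' ψ) : HTop.IsExtVal V W' (φ ≫ ψ) :=
  ⟨h₂.1.comp h₁.1, have := h₁.2; have := h₂.2; RingHom.isLocalHom_comp ψ.hom φ.hom⟩

theorem hasValLift_bind {E : PreZeroHypercover.{w} T} (hE : HTop.HasValLift E)
    {F : ∀ i, PreZeroHypercover.{w'} (E.X i)} (hF : ∀ i, HTop.HasValLift (F i)) :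
    HTop.HasValLift (E.bind F) := by
  intro V _ _ h
  obtain ⟨W, h₁, h₂, φ, hφ, j, l, hl⟩ := hE V h
  obtain ⟨W', h₁', h₂', ψ, hψ, k, l', hl'⟩ := hF j W l
  refine ⟨W', h₁', h₂', φ ≫ ψ, isExtVal_comp hφ hψ, ⟨j, k⟩, l', ?_⟩
  change l' ≫ (F j).f k ≫ E.f j = _
  rw [reassoc_of% hl', hl, Spec.map_comp_assoc]

theorem isStandardV_pullback₁ [IsAffine U] {E : PreZeroHypercover.{w} T} (hE : HTop.IsStandardV E) (g : U ⟶ T) :
    HTop.IsStandardV (E.pullback₁ g) where
  isAffine := inferInstance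
  finite_index := hE.finite_index
  isAffine_obj j := by
    have := hE.isAffine
    have := hE.isAffine_obj j
    exact inferInstanceAs (IsAffine (pullback g (E.f j)))
  lift := hasValLift_pullback₁ hE.lift g

theorem isStandardV_bind {E : PreZeroHypercover.{w} T} (hE : HTop.IsStandardV E)
    {F : ∀ i, PreZeroHypercover.{w'} (E.X i)} (hF : ∀ i, HTop.IsStandardV (F i)) :
    HTop.IsStandardV (E.bind F) where
  isAffine := hE.isAffine
  finite_index := by
    haveI := hE.finite_index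
    haveI := fun i => (hF i).finite_index
    exact inferInstanceAs (Finite (Σ i, (F i).I₀))
  isAffine_obj j := (hF j.1).isAffine_obj j.2
  lift := hasValLift_bind hE.lift fun i => (hF i).lift

theorem refinesOver_pullback₁ {E : PreZeroHypercover.{w} T} {F : PreZeroHypercover.{w'} U} {T' : Scheme.{u}}
    (g : T' ⟶ T) (ι : U ⟶ T') (h : HTop.RefinesOver (ι ≫ g) F E) :
    HTop.RefinesOver ι F (E.pullback₁ g) := by
  intro j
  obtain ⟨i, k, hk⟩ := h j
  exact ⟨i, pullback.lift (F.f j ≫ ι) k (by rw [hk, Category.assoc]), pullback.lift_fst _ _ _⟩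

/-- Any morphism from an affine scheme to a scheme with a V covering is refined by a standard V covering. -/
theorem exists_standard_refining {E : PreZeroHypercover.{w} T} (hE : HTop.IsVCover E) [IsAffine Z]
    (g : Z ⟶ T) : ∃ F : PreZeroHypercover.{0} Z, HTop.IsStandardV F ∧ HTop.RefinesOver g F E := by
  classical
  have h : ∀ z : Z, ∃ (A : T.affineOpens) (B : Z.affineOpens), z ∈ B.1 ∧ B.1 ≤ g ⁻¹ᵁ A.1 := by
    intro z
    obtain ⟨A, hA, hzA, -⟩ := exists_isAffineOpen_mem_and_subset (x := g z) (U := ⊤) trivial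
    obtain ⟨B, hB, hzB, hBA⟩ := exists_isAffineOpen_mem_and_subset (x := z) (U := g ⁻¹ᵁ A) hzA
    exact ⟨⟨A, hA⟩, ⟨B, hB⟩, hzB, hBA⟩
  choose A B hzB hBA using h
  obtain ⟨s, hs⟩ := isCompact_univ.elim_finite_subcover (fun z : Z => ((B z).1 : Set Z))
    (fun z => (B z).1.2) fun z _ => Set.mem_iUnion.mpr ⟨z, hzB z⟩
  let e := s.equivFin.symm
  let G : PreZeroHypercover.{0} Z :=
    { I₀ := Fin s.card, X := fun k => (B (e k).1).1, f := fun k => (B (e k).1).1.ι }
  have hG : HTop.IsStandardV G :=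
    { isAffine := inferInstance
      finite_index := inferInstanceAs (Finite (Fin s.card))
      isAffine_obj := fun k => (B (e k).1).2
      lift := fun V _ _ l => by
        obtain ⟨z, hz, hzl⟩ := Set.mem_iUnion₂.mp (hs (Set.mem_univ (l (closed V))))
        refine ⟨V, inferInstance, inferInstance, 𝟙 V, ⟨Function.injective_id, isLocalHom_id V⟩, e.symm ⟨z, hz⟩,
          IsOpenImmersion.lift (G.f (e.symm ⟨z, hz⟩)) l ?_, ?_⟩
        · change Set.range l ⊆ Set.range (B (e (e.symm ⟨z, hz⟩)).1).1.ι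
          rw [Scheme.Opens.range_ι, e.apply_symm_apply]
          exact range_subset_of_closed l hzl
        · rw [IsOpenImmersion.lift_fac, Spec.map_id, Category.id_comp] }
  let m : ∀ k : Fin s.card, G.X k ⟶ ((A (e k).1).1 : Scheme.{u}) := fun k =>
    g.resLE (A (e k).1).1 (B (e k).1).1 (hBA (e k).1)
  choose F hF hFE using fun k : Fin s.card => hE (A (e k).1)
  haveI := fun k : Fin s.card => show IsAffine (G.X k) from (B (e k).1).2
  refine ⟨G.bind fun k => (F k).pullback₁ (m k),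
    isStandardV_bind hG fun k => isStandardV_pullback₁ (hF k) (m k), ?_⟩
  rintro ⟨k, j⟩
  obtain ⟨i, q, hq⟩ := hFE k j
  refine ⟨i, pullback.snd (m k) ((F k).f j) ≫ q, ?_⟩
  change (pullback.snd _ _ ≫ q) ≫ E.f i = (pullback.fst (m k) ((F k).f j) ≫ G.f k) ≫ g
  rw [Category.assoc, hq, ← pullback.condition_assoc]
  simp only [m, G, Category.assoc, Scheme.Hom.resLE_comp_ι]

theorem isVCover_pullback₁ {T' : Scheme.{u}} (g : T' ⟶ T) {E : PreZeroHypercover.{w} T}
    (hE : HTop.IsVCover E) : HTop.IsVCover (E.pullback₁ g) := fun O => by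
  haveI : IsAffine O.1 := O.2
  obtain ⟨F, hF, hFE⟩ := exists_standard_refining hE (O.1.ι ≫ g)
  exact ⟨F, hF, refinesOver_pullback₁ g O.1.ι hFE⟩

theorem isVCover_bind {E : PreZeroHypercover.{w} T} (hE : HTop.IsVCover E)
    {F : ∀ i, PreZeroHypercover.{w'} (E.X i)} (hF : ∀ i, HTop.IsVCover (F i)) :
    HTop.IsVCover (E.bind F) := fun O => by
  obtain ⟨G, hG, hGE⟩ := hE O
  choose i q hq using hGE
  haveI := hG.isAffine_obj
  choose H hH hHF using fun k => exists_standard_refining (hF (i k)) (q k)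
  refine ⟨G.bind H, isStandardV_bind hG hH, ?_⟩
  rintro ⟨k, l⟩
  obtain ⟨j, r, hr⟩ := hHF k l
  refine ⟨⟨i k, j⟩, r, ?_⟩
  change r ≫ (F (i k)).f j ≫ E.f (i k) = ((H k).f l ≫ G.f k) ≫ O.1.ι
  rw [reassoc_of% hr, hq k, Category.assoc]

theorem isStandardPh_isStandardV {E : PreZeroHypercover.{w} T} (hE : HTop.IsStandardPh E) :
    HTop.IsStandardV E where
  isAffine := hE.isAffine
  finite_index := hE.finite_index
  isAffine_obj := hE.isAffine_obj
  lift := fun V _ _ g => by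
    obtain ⟨Y, f, ι, hf, hs, hι, hcomp, hcov⟩ := hE.exists_proper
    obtain ⟨x', hx'⟩ := (inferInstance : Surjective (pullback.fst g f)).surj (gen V)
    have hcl : closed V ∈ pullback.fst g f '' closure {x'} := by
      refine (gen_specializes_closed V).mem_closed
        ((pullback.fst g f).isClosedMap _ isClosed_closure) ⟨x', subset_closure rfl, hx'⟩
    obtain ⟨x, hx, hxc⟩ := hcl
    obtain ⟨W, h₁, h₂, φ, hφ, l, hl, -, -⟩ :=
      exists_extVal (pullback.fst g f) (specializes_iff_mem_closure.mpr hx) hx' hxc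
    obtain ⟨j, hj⟩ := hcov ((l ≫ pullback.snd g f) (closed W))
    haveI := hι j
    refine ⟨W, h₁, h₂, φ, hφ, j, IsOpenImmersion.lift (ι j) (l ≫ pullback.snd g f)
      (range_subset_of_closed (O := (ι j).opensRange) _ hj), ?_⟩
    rw [← hcomp j, IsOpenImmersion.lift_fac_assoc, Category.assoc, ← pullback.condition, ← Category.assoc, hl]

theorem isVCover_fpqc (𝒰 : Scheme.Cover Scheme.fpqcPrecoverage T) :
    HTop.IsVCover 𝒰.toPreZeroHypercover := fun O => by
  haveI : QuasiCompactCover 𝒰.toPreZeroHypercover := by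
    rw [← Scheme.presieve₀_mem_qcPrecoverage_iff]
    exact 𝒰.mem₀.1
  have hflat : ∀ i, Flat (𝒰.f i) := fun i =>
    ((Scheme.ofArrows_mem_precoverage_iff (P := @Flat)).mp 𝒰.mem₀.2).2 i
  obtain ⟨n, i, B, hB, hcov⟩ :=
    QuasiCompactCover.exists_isAffineOpen_of_isCompact 𝒰.toPreZeroHypercover O.2.isCompact
  have hle : ∀ k, B k ≤ 𝒰.f (i k) ⁻¹ᵁ O.1 := fun k b hb =>
    hcov.le (Set.mem_iUnion.mpr ⟨k, b, hb, rfl⟩)
  let F : PreZeroHypercover.{0} (O.1 : Scheme.{u}) :=
    { I₀ := Fin n, X := fun k => B k, f := fun k => (𝒰.f (i k)).resLE O.1 (B k) (hle k) }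
  have hFf : ∀ k, F.f k ≫ O.1.ι = (B k).ι ≫ 𝒰.f (i k) := fun k => Scheme.Hom.resLE_comp_ι _ _
  refine ⟨F, ⟨O.2, inferInstanceAs (Finite (Fin n)), fun k => hB k, fun V _ _ g => ?_⟩,
    fun k => ⟨i k, (B k).ι, (hFf k).symm⟩⟩
  obtain ⟨k, b, hb, hbe⟩ := Set.mem_iUnion.mp (hcov.ge (g (closed V)).2)
  haveI : Flat (F.f k) := by
    haveI := hflat (i k)
    change Flat ((𝒰.f (i k)).resLE O.1 (B k) (hle k))
    delta Scheme.Hom.resLE
    infer_instance
  have hb' : F.f k ⟨b, hb⟩ = g (closed V) := by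
    apply O.1.ι.isEmbedding.injective
    rw [← Scheme.Hom.comp_apply, hFf k]
    exact hbe
  obtain ⟨x, hx, -⟩ := Scheme.Pullback.exists_preimage_pullback (f := g) (g := F.f k) (closed V) ⟨b, hb⟩ hb'.symm
  obtain ⟨x', hx', hgx'⟩ := (Flat.generalizingMap (pullback.fst g (F.f k)))
    (show gen V ⤳ pullback.fst g (F.f k) x from hx.symm ▸ gen_specializes_closed V)
  obtain ⟨W, h₁, h₂, φ, hφ, l, hl, -, -⟩ := exists_extVal (pullback.fst g (F.f k)) hx' hgx' hx
  exact ⟨W, h₁, h₂, φ, hφ, k, l ≫ pullback.snd g (F.f k), by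
    rw [Category.assoc, ← pullback.condition, ← Category.assoc, hl]⟩

theorem hasValLift_singleton_iff {X Y : Scheme.{u}} (f : X ⟶ Y) :
    HTop.HasValLift (PreZeroHypercover.singleton.{w} f) ↔
      ∀ (Z : Scheme.{u}) (g : Z ⟶ Y) (z' z : Z), z' ⤳ z →
        ∃ w' w : ↑(pullback g f), w' ⤳ w ∧ pullback.fst g f w' = z' ∧ pullback.fst g f w = z := by
  constructor
  · intro h Z g z' z hz
    obtain ⟨V, _, _, l, hl', hl⟩ := exists_val Z hz
    obtain ⟨W, _, _, φ, hφ, _j, m, hm⟩ := h V (l ≫ g)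
    let q : Spec W ⟶ pullback g f := pullback.lift (Spec.map φ ≫ l) m (by rw [Category.assoc]; exact hm.symm)
    have hq : q ≫ pullback.fst g f = Spec.map φ ≫ l := pullback.lift_fst _ _ _
    refine ⟨q (gen W), q (closed W), (gen_specializes_closed W).map q.continuous, ?_, ?_⟩
    · rw [← Scheme.Hom.comp_apply, hq, Scheme.Hom.comp_apply, gen_map hφ.1, hl']
    · rw [← Scheme.Hom.comp_apply, hq, Scheme.Hom.comp_apply, closed_map hφ.2, hl]
  · intro h V _ _ g
    obtain ⟨x', x, hx, h₁, h₂⟩ := h (Spec V) g (gen V) (closed V) (gen_specializes_closed V)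
    obtain ⟨W, hW₁, hW₂, φ, hφ, l, hl, -, -⟩ := exists_extVal (pullback.fst g f) hx h₁ h₂
    exact ⟨W, hW₁, hW₂, φ, hφ, PUnit.unit, l ≫ pullback.snd g f, by
      change (l ≫ pullback.snd g f) ≫ f = _
      rw [Category.assoc, ← pullback.condition, ← Category.assoc, hl]⟩

theorem isVCover_singleton_iff {X Y : Scheme.{u}} (f : X ⟶ Y) [QuasiCompact f] :
    HTop.IsVCover (PreZeroHypercover.singleton.{w} f) ↔ HTop.HasValLift (PreZeroHypercover.singleton.{w'} f) := by
  constructor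
  · intro h V _ _ g
    obtain ⟨A, hA, hgA, -⟩ := exists_isAffineOpen_mem_and_subset (x := g (closed V)) (U := ⊤) trivial
    obtain ⟨F, hF, hFE⟩ := h ⟨A, hA⟩
    let g' := IsOpenImmersion.lift A.ι g (by rw [Scheme.Opens.range_ι]; exact range_subset_of_closed g hgA)
    obtain ⟨W, h₁, h₂, φ, hφ, j, l, hl⟩ := hF.lift V g'
    obtain ⟨i, q, hq⟩ := hFE j
    refine ⟨W, h₁, h₂, φ, hφ, PUnit.unit, l ≫ q, ?_⟩
    change (l ≫ q) ≫ f = _
    have hq' : q ≫ f = F.f j ≫ A.ι := hq
    rw [Category.assoc]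
    erw [hq']
    rw [reassoc_of% hl, IsOpenImmersion.lift_fac]
  · intro h O
    have hqc := f.isCompact_preimage O.2.isCompact
    classical
    have hB : ∀ x : X, ∃ B : X.affineOpens, x ∈ f ⁻¹ᵁ O.1 → x ∈ B.1 ∧ B.1 ≤ f ⁻¹ᵁ O.1 := fun x => by
      by_cases hx : x ∈ f ⁻¹ᵁ O.1
      · obtain ⟨B, hB, hxB, hBle⟩ := exists_isAffineOpen_mem_and_subset hx
        exact ⟨⟨B, hB⟩, fun _ => ⟨hxB, hBle⟩⟩
      · exact ⟨⟨⊥, isAffineOpen_bot X⟩, fun hx' => absurd hx' hx⟩
    choose B hB using hB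
    obtain ⟨s, hs, hsf, hcov⟩ := hqc.elim_finite_subcover_image
      (b := ((f ⁻¹ᵁ O.1 : X.Opens) : Set X)) (c := fun x => ((B x).1 : Set X)) (fun x _ => (B x).1.2)
      (fun x hx => Set.mem_iUnion₂.mpr ⟨x, hx, (hB x hx).1⟩)
    haveI : Finite s := hsf
    obtain ⟨n, ⟨e⟩⟩ := Finite.exists_equiv_fin s
    let F : PreZeroHypercover.{0} (O.1 : Scheme.{u}) :=
      { I₀ := Fin n, X := fun k => (B (e.symm k).1).1,
        f := fun k => f.resLE O.1 _ (hB _ (hs (e.symm k).2)).2 }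
    refine ⟨F, ⟨O.2, inferInstanceAs (Finite (Fin n)), fun k => (B (e.symm k).1).2, fun V _ _ g => ?_⟩,
      fun k => ⟨PUnit.unit, (B (e.symm k).1).1.ι, (Scheme.Hom.resLE_comp_ι _ _).symm⟩⟩
    obtain ⟨W, h₁, h₂, φ, hφ, _j, l₀, hl₀⟩ := h V (g ≫ O.1.ι)
    obtain ⟨l, hl'⟩ : ∃ l : Spec W ⟶ X, l ≫ f = Spec.map φ ≫ g ≫ O.1.ι := ⟨l₀, hl₀⟩
    have hmem : l (closed W) ∈ f ⁻¹ᵁ O.1 := by
      change f (l (closed W)) ∈ O.1
      rw [← Scheme.Hom.comp_apply, hl']
      exact (g (Spec.map φ (closed W))).2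
    obtain ⟨x, hxs, hlx⟩ := Set.mem_iUnion₂.mp (hcov hmem)
    refine ⟨W, h₁, h₂, φ, hφ, e ⟨x, hxs⟩, IsOpenImmersion.lift (B (e.symm (e ⟨x, hxs⟩)).1).1.ι l ?_, ?_⟩
    · rw [Scheme.Opens.range_ι, e.symm_apply_apply]
      exact range_subset_of_closed l hlx
    · rw [← cancel_mono O.1.ι]
      simp only [F, Category.assoc, Scheme.Hom.resLE_comp_ι, IsOpenImmersion.lift_fac_assoc]
      exact hl'

end VCovLib
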