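import Groth.Agent.VCovLib.Basic
import Mathlib.AlgebraicGeometry.Sites.SheafQuasiCompact
import Mathlib.AlgebraicGeometry.Sites.BigZariski

/-!
# The sheaf condition for V coverings
-/

set_option autoImplicit false

universe w w' u

open CategoryTheory CategoryTheory.Limits AlgebraicGeometry TopologicalSpace Opposite

namespace VCovLib

variable {T U Z : Scheme.{u}}

theorem hasValLift_pullback₂ {E : PreZeroHypercover.{w'} T} (hE : HTop.HasValLift E) (g : U ⟶ T) :
    HTop.HasValLift (E.pullback₂ g) := by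
  intro V _ _ h
  obtain ⟨W, h₁, h₂, φ, hφ, j, l, hl⟩ := hE V (h ≫ g)
  exact ⟨W, h₁, h₂, φ, hφ, j, pullback.lift l (Spec.map φ ≫ h) (by rw [hl, Category.assoc]),
    pullback.lift_snd _ _ _⟩

theorem isStandardV_pullback₂ [IsAffine U] {E : PreZeroHypercover.{w'} T} (hE : HTop.IsStandardV E) (g : U ⟶ T) :
    HTop.IsStandardV (E.pullback₂ g) where
  isAffine := inferInstance
  finite_index := hE.finite_index
  isAffine_obj j := by
    have := hE.isAffine
    have := hE.isAffine_obj j
    exact inferInstanceAs (IsAffine (pullback (E.f j) g))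
  lift := hasValLift_pullback₂ hE.lift g

theorem isStandardV_pullback₂₂ {V : Scheme.{u}} [IsAffine V] {E : PreZeroHypercover.{w'} T} (hE : HTop.IsStandardV E)
    (g : U ⟶ T) (h : V ⟶ U) : HTop.IsStandardV ((E.pullback₂ g).pullback₂ h) where
  isAffine := inferInstance
  finite_index := hE.finite_index
  isAffine_obj j := by
    have := hE.isAffine
    have := hE.isAffine_obj j
    exact .of_isIso (pullbackLeftPullbackSndIso (E.f j) g h).hom
  lift := hasValLift_pullback₂ (hasValLift_pullback₂ hE.lift g) h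

theorem isVCover_of_isStandardV {E : PreZeroHypercover.{w'} T} (hE : HTop.IsStandardV E) : HTop.IsVCover E := by
  intro O
  haveI : IsAffine O.1 := O.2
  haveI := hE.finite_index
  obtain ⟨n, ⟨e⟩⟩ := Finite.exists_equiv_fin E.I₀
  have h := isStandardV_pullback₁ hE O.1.ι
  refine ⟨(E.pullback₁ O.1.ι).reindex e.symm,
    ⟨h.isAffine, inferInstanceAs (Finite (Fin n)), fun j => h.isAffine_obj _, fun V _ _ g => ?_⟩,
    fun j => ⟨e.symm j, pullback.snd _ _, pullback.condition.symm⟩⟩
  obtain ⟨W, h₁, h₂, φ, hφ, j, hjl⟩ := h.lift V g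
  obtain ⟨j', rfl⟩ := e.symm.surjective j
  exact ⟨W, h₁, h₂, φ, hφ, j', hjl⟩

theorem isVCover_openCover (𝒰 : T.OpenCover) : HTop.IsVCover 𝒰.toPreZeroHypercover :=
  isVCover_fpqc ⟨𝒰.toPreZeroHypercover, Scheme.zariskiPrecoverage_le_propQCPrecoverage _ 𝒰.mem₀⟩

variable {F : Scheme.{u}ᵒᵖ ⥤ Type w}

theorem isSheaf_zariski_of_isVSheaf (hF : HTop.IsVSheaf F) : Presieve.IsSheaf Scheme.zariskiTopology F := by
  rw [Scheme.zariskiTopology, Scheme.grothendieckTopology,
    Precoverage.isSheaf_toGrothendieck_iff_of_isStableUnderBaseChange_of_small.{u}]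
  intro X (𝒰 : X.OpenCover)
  exact hF _ ((HTop.presieve₀_mem_vPrecoverage_iff _).mpr (isVCover_openCover 𝒰))

theorem isSheafFor_standard_pullback (hzar : Presieve.IsSheaf Scheme.zariskiTopology F)
    (hst : ∀ (T : Scheme.{u}) (E : PreZeroHypercover.{u} T), HTop.IsStandardV E → Presieve.IsSheafFor F E.presieve₀)
    {E : PreZeroHypercover.{u} T} (hE : HTop.IsStandardV E) {V : Scheme.{u}} (f : V ⟶ T) :
    Presieve.IsSheafFor F (E.pullback₂ f).presieve₀ := by
  refine V.affineOneHypercover.isSheafFor_of_pullback hzar (fun i => ?_) (fun i j k => ?_)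
  · rw [← Sieve.pullbackArrows_comm, ← Presieve.ofArrows_pullback, ← Presieve.isSheafFor_iff_generate]
    exact hst _ _ (isStandardV_pullback₂₂ hE f (V.affineCover.f i))
  · rw [← Sieve.pullbackArrows_comm, ← Presieve.ofArrows_pullback, ← Presieve.isSeparatedFor_iff_generate]
    haveI : IsAffine (V.affineOneHypercover.Y k) :=
      inferInstanceAs (IsAffine ((pullback (V.affineCover.f i) (V.affineCover.f j)).affineCover.X k))
    exact (hst _ _ (isStandardV_pullback₂₂ hE f
      (V.affineOneHypercover.p₁ k ≫ V.affineOneHypercover.f i))).isSeparatedFor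

theorem isSheafFor_vCover_affine (hzar : Presieve.IsSheaf Scheme.zariskiTopology F)
    (hst : ∀ (T : Scheme.{u}) (E : PreZeroHypercover.{u} T), HTop.IsStandardV E → Presieve.IsSheafFor F E.presieve₀)
    {E : PreZeroHypercover.{w'} T} (hE : HTop.IsVCover E) [IsAffine Z] (g : Z ⟶ T) :
    Presieve.IsSheafFor F (E.pullback₂ g).presieve₀ := by
  obtain ⟨G₀, hG₀, hGE⟩ := exists_standard_refining hE g
  let G : PreZeroHypercover.{u} Z := G₀.reindex (Equiv.ulift.{u, 0} (α := G₀.I₀))
  have hG : HTop.IsStandardV G := by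
    haveI := hG₀.finite_index
    exact ⟨inferInstance, inferInstanceAs (Finite (ULift.{u} G₀.I₀)), fun j => hG₀.isAffine_obj _, fun V _ _ l => by
      obtain ⟨W, h₁, h₂, φ, hφ, j, hl⟩ := hG₀.lift V l
      exact ⟨W, h₁, h₂, φ, hφ, ⟨j⟩, hl⟩⟩
  rw [Presieve.isSheafFor_iff_generate]
  apply Presieve.isSheafFor_subsieve_aux (S := .generate G.presieve₀)
  · rintro W h ⟨Y, a, b, ⟨j⟩, rfl⟩
    obtain ⟨i, k, hk⟩ := hGE j.down
    refine ⟨_, a ≫ pullback.lift k (G₀.f j.down) hk, _, ⟨i⟩, ?_⟩
    rw [Category.assoc]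
    exact congrArg (a ≫ ·) (pullback.lift_snd _ _ _)
  · rw [← Presieve.isSheafFor_iff_generate]
    exact hst _ G hG
  · intro Y f _
    rw [← Sieve.pullbackArrows_comm, ← Presieve.isSeparatedFor_iff_generate, ← Presieve.ofArrows_pullback]
    exact (isSheafFor_standard_pullback hzar hst hG f).isSeparatedFor

theorem isVSheaf_iff (F : Scheme.{u}ᵒᵖ ⥤ Type w) :
    HTop.IsVSheaf F ↔ (Presieve.IsSheaf Scheme.zariskiTopology F ∧
      ∀ (T : Scheme.{u}) (E : PreZeroHypercover.{u} T), HTop.IsStandardV E → Presieve.IsSheafFor F E.presieve₀) := by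
  refine ⟨fun hF => ⟨isSheaf_zariski_of_isVSheaf hF, fun T E hE =>
    hF _ ((HTop.presieve₀_mem_vPrecoverage_iff E).mpr (isVCover_of_isStandardV hE))⟩, ?_⟩
  rintro ⟨hzar, hst⟩ X R hR
  obtain ⟨E, hE, rfl⟩ := PreZeroHypercoverFamily.mem_precoverage_iff.mp hR
  refine X.affineOneHypercover.isSheafFor_of_pullback hzar (fun i => ?_) (fun i j k => ?_)
  · rw [← Sieve.pullbackArrows_comm, ← Presieve.ofArrows_pullback, ← Presieve.isSheafFor_iff_generate]
    exact isSheafFor_vCover_affine hzar hst hE (X.affineCover.f i)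
  · rw [← Sieve.pullbackArrows_comm, ← Presieve.ofArrows_pullback, ← Presieve.isSeparatedFor_iff_generate]
    haveI : IsAffine (X.affineOneHypercover.Y k) :=
      inferInstanceAs (IsAffine ((pullback (X.affineCover.f i) (X.affineCover.f j)).affineCover.X k))
    exact (isSheafFor_vCover_affine hzar hst hE
      (X.affineOneHypercover.p₁ k ≫ X.affineOneHypercover.f i)).isSeparatedFor

theorem isVSheaf_iff_singleton (F : Scheme.{u}ᵒᵖ ⥤ Type w) :
    HTop.IsVSheaf F ↔ (Presieve.IsSheaf Scheme.zariskiTopology F ∧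
      ∀ (U V : Scheme.{u}) (f : V ⟶ U), HTop.IsStandardV (PreZeroHypercover.singleton.{w'} f) →
        Presieve.IsSheafFor F (Presieve.singleton f)) := by
  refine ⟨fun hF => ⟨isSheaf_zariski_of_isVSheaf hF, fun U V f hf => ?_⟩, fun h => ?_⟩
  · have := hF _ ((HTop.presieve₀_mem_vPrecoverage_iff _).mpr (isVCover_of_isStandardV hf))
    rwa [PreZeroHypercover.presieve₀_singleton] at this
  obtain ⟨hzar, hsing⟩ := h
  refine (isVSheaf_iff F).mpr ⟨hzar, fun T E hE => ?_⟩
  haveI := hE.finite_index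
  haveI := hE.isAffine_obj
  haveI : Finite (E.I₀ × E.I₀) := inferInstance
  have : PreservesLimitsOfShape (Discrete (E.I₀ × E.I₀)) F :=
    preservesLimitsOfShape_discrete_of_isSheaf_zariskiTopology hzar
  have : PreservesLimitsOfShape (Discrete E.I₀) F :=
    preservesLimitsOfShape_discrete_of_isSheaf_zariskiTopology hzar
  have h := hsing T (∐ E.X) (Sigma.desc E.f) ⟨hE.isAffine, inferInstanceAs (Finite PUnit), fun _ =>
    inferInstanceAs (IsAffine (∐ E.X)), fun V _ _ g => by
      obtain ⟨W, h₁, h₂, φ, hφ, j, l, hl⟩ := hE.lift V g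
      exact ⟨W, h₁, h₂, φ, hφ, PUnit.unit, l ≫ Sigma.ι E.X j, by
        change (l ≫ Sigma.ι E.X j) ≫ Sigma.desc E.f = _
        rw [Category.assoc, Sigma.ι_desc, hl]⟩⟩
  exact (Presieve.isSheafFor_sigmaDesc_iff E.f (coproductIsCoproduct _)
    (FinitaryExtensive.isVanKampen_finiteCoproducts (coproductIsCoproduct _)).isUniversal F).mp h

end VCovLib
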