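import Groth.Agent.VCovLib.Subtr

/-!
# Chains of specializations and valuation rings
-/

set_option autoImplicit false

universe u

open CategoryTheory CategoryTheory.Limits AlgebraicGeometry TopologicalSpace

namespace VCovLib

variable {X Y : Scheme.{u}}

/-- Composition of a valuation ring with a valuation ring of its residue field. -/
theorem valuationRing_comap {V : Type u} [CommRing V] [IsDomain V] [ValuationRing V]
    (A : ValuationSubring (IsLocalRing.ResidueField V)) :
    ValuationRing (A.toSubring.comap (IsLocalRing.residue V)) := by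
  have key : ∀ (a b : A.toSubring.comap (IsLocalRing.residue V)) (c : V), (b : V) = a * c → a ∣ b ∨ b ∣ a := by
    intro a b c hc
    by_cases hcA : IsLocalRing.residue V c ∈ A
    · exact Or.inl ⟨⟨c, hcA⟩, Subtype.ext hc⟩
    · have hne : IsLocalRing.residue V c ≠ 0 := fun e => hcA (e ▸ A.zero_mem)
      obtain ⟨u, rfl⟩ := (IsLocalRing.residue_ne_zero_iff_isUnit c).mp hne
      have hinv : IsLocalRing.residue V (↑u⁻¹ : V) = (IsLocalRing.residue V (u : V))⁻¹ := by
        refine (inv_eq_of_mul_eq_one_right ?_).symm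
        rw [← map_mul, Units.mul_inv, map_one]
      have hmem : IsLocalRing.residue V (↑u⁻¹ : V) ∈ A := hinv ▸ (A.mem_or_inv_mem _).resolve_left hcA
      exact Or.inr ⟨⟨_, hmem⟩, Subtype.ext (by push_cast; rw [hc, mul_assoc, Units.mul_inv, mul_one])⟩
  rw [ValuationRing.iff_dvd_total]
  refine ⟨fun a b => ?_⟩
  rcases ValuationRing.dvd_total (a : V) (b : V) with ⟨c, hc⟩ | ⟨c, hc⟩
  · exact key a b c hc
  · exact (key b a c hc).symm

theorem exists_val_chain (Y : Scheme.{u}) (n : ℕ) (y : Fin (n + 1) → Y)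
    (hy : ∀ i j : Fin (n + 1), i ≤ j → y i ⤳ y j) :
    ∃ (V : CommRingCat.{u}) (_ : IsDomain V) (_ : ValuationRing V) (l : Spec V ⟶ Y)
      (z : Fin (n + 1) → Spec V),
      (∀ i j : Fin (n + 1), i ≤ j → z i ⤳ z j) ∧ (∀ i, l (z i) = y i) ∧ z (Fin.last n) = closed V := by
  induction n with
  | zero =>
    obtain ⟨V, h₁, h₂, l, -, hl⟩ := exists_val Y (specializes_refl (y 0))
    exact ⟨V, h₁, h₂, l, fun _ => closed V, fun _ _ _ => specializes_rfl,
      fun i => by obtain rfl : i = 0 := Fin.eq_zero i; exact hl, rfl⟩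
  | succ n ih =>
    obtain ⟨V, _, _, l, z, hz, hlz, hlast⟩ := ih (fun i => y i.castSucc) fun i j h => hy _ _ (by simpa using h)
    have h : l (closed V) ⤳ y (Fin.last (n + 1)) := by
      rw [← hlast, hlz]; exact hy _ _ (Fin.le_last _)
    let q : Y.presheaf.stalk (y (Fin.last (n + 1))) ⟶ V :=
      Y.presheaf.stalkSpecializes h ≫ Scheme.stalkClosedPointTo l
    obtain ⟨A, hA, hloc⟩ := IsLocalRing.exists_factor_valuationRing ((IsLocalRing.residue V).comp q.hom)
    let S : Subring V := A.toSubring.comap (IsLocalRing.residue V)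
    haveI : ValuationRing S := valuationRing_comap A
    let V' : CommRingCat.{u} := CommRingCat.of S
    let ψ : Y.presheaf.stalk (y (Fin.last (n + 1))) ⟶ V' := CommRingCat.ofHom (q.hom.codRestrict S fun x => hA x)
    let ι : V' ⟶ V := CommRingCat.ofHom S.subtype
    let l' : Spec V' ⟶ Y := Spec.map ψ ≫ Y.fromSpecStalk _
    have hl' : Spec.map ι ≫ l' = l := by
      have e : ψ ≫ ι = q := rfl
      rw [← Category.assoc, ← Spec.map_comp, e, Spec.map_comp, Category.assoc,
        Scheme.SpecMap_stalkSpecializes_fromSpecStalk, Scheme.Spec_stalkClosedPointTo_fromSpecStalk]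
    have hψ : IsLocalHom ψ.hom := ⟨fun a ha => by
      have h1 : IsUnit ((((IsLocalRing.residue V).comp q.hom).codRestrict A.toSubring hA) a) := by
        obtain ⟨u, hu⟩ := ha
        refine IsUnit.of_mul_eq_one ⟨IsLocalRing.residue V ((↑u⁻¹ : V') : S).1, ((↑u⁻¹ : V') : S).2⟩ (Subtype.ext ?_)
        have := congrArg (fun s : S => IsLocalRing.residue V s.1) u.mul_inv
        simp only [Subring.coe_mul, map_mul, Subring.coe_one, map_one] at this
        rw [hu] at this
        exact this
      exact hloc.map_nonunit a h1⟩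
    haveI : IsDomain V' := inferInstanceAs (IsDomain S)
    haveI : ValuationRing V' := inferInstanceAs (ValuationRing S)
    have hcl : l' (closed V') = y (Fin.last (n + 1)) := by
      rw [Scheme.Hom.comp_apply, closed_map hψ, Scheme.fromSpecStalk_closedPoint]
    refine ⟨V', inferInstance, inferInstance, l',
      Fin.lastCases (closed V') (fun i => Spec.map ι (z i)), fun i j hij => ?_, fun i => ?_, by simp⟩
    · induction j using Fin.lastCases with
      | last =>
        simp only [Fin.lastCases_last]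
        exact IsLocalRing.specializes_closedPoint _
      | cast j =>
        induction i using Fin.lastCases with
        | last => exact absurd hij (not_le.mpr (Fin.castSucc_lt_last j))
        | cast i =>
          simp only [Fin.lastCases_castSucc]
          exact (hz i j (by simpa using hij)).map (Scheme.Hom.continuous _)
    · induction i using Fin.lastCases with
      | last => simpa using hcl
      | cast i =>
        simp only [Fin.lastCases_castSucc]
        rw [← Scheme.Hom.comp_apply, hl', hlz]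

theorem exists_lift_chain (f : X ⟶ Y) (hf : Subtr.UnivSSubtrusive f) (n : ℕ) (y : Fin (n + 1) → Y)
    (hy : ∀ i j : Fin (n + 1), i ≤ j → y i ⤳ y j) :
    ∃ x : Fin (n + 1) → X, (∀ i j : Fin (n + 1), i ≤ j → x i ⤳ x j) ∧ ∀ i, f (x i) = y i := by
  obtain ⟨V, _, _, l, z, hz, hlz, -⟩ := exists_val_chain Y n y hy
  obtain ⟨W, _, _, φ, hφ, _j, m₀, hm₀⟩ := (univSSubtrusive_iff f).mp hf V l
  obtain ⟨m, hm⟩ : ∃ m : Spec W ⟶ X, m ≫ f = Spec.map φ ≫ l := ⟨m₀, hm₀⟩
  have hs := (surjective_of_isExtVal hφ).surj
  choose σ hσ using hs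
  refine ⟨fun i => m (σ (z i)), fun i j hij => ?_, fun i => ?_⟩
  · rcases (ValuationRing.le_total_ideal (A := W)).total (σ (z i)).asIdeal (σ (z j)).asIdeal with h | h
    · exact ((PrimeSpectrum.le_iff_specializes _ _).mp h).map m.continuous
    · have h' := ((PrimeSpectrum.le_iff_specializes _ _).mp h).map (Spec.map φ).continuous
      rw [hσ, hσ] at h'
      have e : z i = z j := (Specializes.antisymm (hz i j hij) h').eq
      show m (σ (z i)) ⤳ m (σ (z j))
      rw [e]
  · rw [← Scheme.Hom.comp_apply, hm, Scheme.Hom.comp_apply, hσ, hlz]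

theorem exists_lift_three (f : X ⟶ Y) (hf : Subtr.UnivSSubtrusive f) (a b c : Y) (hab : a ⤳ b) (hbc : b ⤳ c) :
    ∃ a' b' c' : X, a' ⤳ b' ∧ b' ⤳ c' ∧ f a' = a ∧ f b' = b ∧ f c' = c := by
  obtain ⟨x, hx, hfx⟩ := exists_lift_chain f hf 2 ![a, b, c] fun i j hij => by
    fin_cases i <;> fin_cases j <;>
      first
        | exact specializes_rfl
        | exact hab
        | exact hbc
        | exact hab.trans hbc
        | exact absurd hij (by decide)
  exact ⟨x 0, x 1, x 2, hx 0 1 (by decide), hx 1 2 (by decide), hfx 0, hfx 1, hfx 2⟩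

theorem locallyClosed_retrocompact_iff (f : X ⟶ Y) [QuasiCompact f] (hf : Subtr.UnivSSubtrusive f) (E : Set Y) :
    (IsLocallyClosed E ∧ IsRetrocompact E) ↔ (IsLocallyClosed (f ⁻¹' E) ∧ IsRetrocompact (f ⁻¹' E)) :=
  isLocallyClosed_isRetrocompact_iff f hf (exists_lift_three f hf) E

end VCovLib
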