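import Groth.Agent.VCovLib.Chain

/-!
# Descent of local closedness
-/

set_option autoImplicit false

universe u

open CategoryTheory CategoryTheory.Limits AlgebraicGeometry TopologicalSpace Topology
open Groth.Agent.ProConsLib

namespace VCovLib

variable {X Y : Scheme.{u}}

theorem isLocallyClosed_iff_preimage (f : X ⟶ Y) [LocallyOfFinitePresentation f] [QuasiCompact f]
    (hf : Subtr.UnivSSubtrusive f) (E : Set Y) : IsLocallyClosed E ↔ IsLocallyClosed (f ⁻¹' E) := by
  refine ⟨fun h => h.preimage f.continuous, fun h => ?_⟩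
  have hS : Subtr.IsSSubtrusive f := hf (𝟙 _) (𝟙 _) f IsPullback.of_id_snd
  obtain ⟨W, C', hW, -, hWC⟩ := id h
  set C := closure (f ⁻¹' E) with hCdef
  let K : Set Y := (f '' Cᶜ)ᶜ
  have hK : ProCons.IsProConstructible K := isProConstructible_compl_iff.mpr
    (isIndConstructible_image f (RichLib.LimTop.isIndConstructible_of_isOpen isClosed_closure.isOpen_compl))
  have hKC : f ⁻¹' K ⊆ C := fun x hx => by
    by_contra hxC
    exact hx ⟨x, hxC, rfl⟩
  have hEK : E ⊆ K := fun e he ⟨x, hx, hxe⟩ => hx (subset_closure (show f x ∈ E from hxe ▸ he))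
  have hDcl : IsClosed (C \ f ⁻¹' E) := by
    have := h.isOpen_coborder.isClosed_compl
    rwa [coborder, compl_compl] at this
  let D := f '' (C \ f ⁻¹' E)
  have hD : ProCons.IsProConstructible D :=
    isProConstructible_image f (RichLib.LimTop.isProConstructible_of_isClosed hDcl)
  refine ⟨(closure D)ᶜ, closure K, isClosed_closure.isOpen_compl, isClosed_closure,
    Set.Subset.antisymm (fun z hz => ⟨fun hzD => ?_, subset_closure (hEK hz)⟩) ?_⟩
  · obtain ⟨_, ⟨d, hd, rfl⟩, hdz⟩ := exists_specializes_of_mem_closure_sch hD hzD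
    obtain ⟨k, hk, hkd⟩ := exists_specializes_of_mem_closure_sch (isProConstructible_preimage f hK)
      (closure_mono (Set.preimage_mono hEK) hd.1)
    obtain ⟨k', d', z', hkd', hdz', hfk, hfd, hfz⟩ := exists_lift_three f hf _ _ _ (hkd.map f.continuous) hdz
    have hz' : z' ∈ W ∩ C' := hWC.le (show f z' ∈ E from hfz ▸ hz)
    have hk' : k' ∈ C := hKC (show f k' ∈ K from hfk ▸ hk)
    have hd'C : d' ∈ C := hkd'.mem_closed isClosed_closure hk'
    refine hd.2 (show f d ∈ E from hfd ▸ ?_)
    by_contra hd'E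
    have h1 : d' ∈ C \ f ⁻¹' E := ⟨hd'C, hd'E⟩
    exact ((hdz'.mem_closed hDcl h1).2) (show f z' ∈ E from hfz ▸ hz)
  · rintro y ⟨hyD, hy⟩
    by_contra hyE
    obtain ⟨k, hk, hky⟩ := exists_specializes_of_mem_closure_sch hK hy
    obtain ⟨x, x', hx, rfl, hx'⟩ := hS hky
    exact hyD (subset_closure ⟨x, ⟨hx.mem_closed isClosed_closure (hKC (show f x' ∈ K from hx'.symm ▸ hk)), hyE⟩, rfl⟩)

end VCovLib
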