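import Groth.Agent.VCovLib.Fpqc
import Groth.Agent.RichLib.LimTop
import Groth.Agent.ProConsLib.Range
import Groth.Agent.FFDescLib.Submersive
import Groth.Agent.WeightLib.EtaleQF
import Groth.Prelude.Def_W4c2submetdescSubtr

/-!
# S-subtrusive and universally submersive morphisms
-/

set_option autoImplicit false

universe u

open CategoryTheory CategoryTheory.Limits AlgebraicGeometry TopologicalSpace Topology

open Groth.Agent.ProConsLib

namespace VCovLib

variable {X Y : Scheme.{u}}

/-- Lifting of the pair generic point, closed point over all valuation rings. -/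
def HasPairs (f : X ⟶ Y) : Prop :=
  ∀ (V : CommRingCat.{u}) [IsDomain V] [ValuationRing V] (g : Spec V ⟶ Y),
    ∃ x' x : ↑(pullback g f), x' ⤳ x ∧ pullback.fst g f x' = gen V ∧ pullback.fst g f x = closed V

theorem hasValLift_of_hasPairs {f : X ⟶ Y} (h : HasPairs f) :
    HTop.HasValLift (PreZeroHypercover.singleton.{0} f) := fun V _ _ g => by
  obtain ⟨x', x, hx, h', h₀⟩ := h V g
  obtain ⟨W, h₁, h₂, φ, hφ, l, hl, -, -⟩ := exists_extVal (pullback.fst g f) hx h' h₀
  exact ⟨W, h₁, h₂, φ, hφ, PUnit.unit, l ≫ pullback.snd g f, by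
    change (l ≫ pullback.snd g f) ≫ f = _
    rw [Category.assoc, ← pullback.condition, ← Category.assoc, hl]⟩

theorem univSSubtrusive_iff (f : X ⟶ Y) :
    Subtr.UnivSSubtrusive f ↔ HTop.HasValLift (PreZeroHypercover.singleton.{0} f) := by
  rw [hasValLift_singleton_iff]
  constructor
  · intro h Z g z' z hz
    obtain ⟨x, x', hx, h₀, h₁⟩ :=
      h (pullback.snd g f) g (pullback.fst g f) (IsPullback.of_hasPullback g f) hz
    exact ⟨x', x, hx, h₁, h₀⟩
  · intro h X' Y' i₁ i₂ f' hsq y y' hy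
    obtain ⟨w', w, hw, h₁, h₀⟩ := h Y' i₂ y' y hy
    refine ⟨hsq.isoPullback.inv w, hsq.isoPullback.inv w', hw.map hsq.isoPullback.inv.continuous, ?_, ?_⟩
    · rw [← Scheme.Hom.comp_apply, hsq.isoPullback_inv_fst, h₀]
    · rw [← Scheme.Hom.comp_apply, hsq.isoPullback_inv_fst, h₁]

theorem hasPairs_of_univ {f : X ⟶ Y} (h : Subtr.UnivSSubtrusive f) : HasPairs f := fun V _ _ g =>
  (hasValLift_singleton_iff f).mp ((univSSubtrusive_iff f).mp h) (Spec V) g _ _ (gen_specializes_closed V)

theorem univ_of_hasPairs {f : X ⟶ Y} (h : HasPairs f) : Subtr.UnivSSubtrusive f :=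
  (univSSubtrusive_iff f).mpr (hasValLift_of_hasPairs h)

theorem univSSubtrusive_iff_valuation (f : X ⟶ Y) :
    Subtr.UnivSSubtrusive f ↔
      ∀ (V : Type u) [CommRing V] [IsDomain V] [ValuationRing V] (g : Spec (CommRingCat.of V) ⟶ Y),
        Subtr.IsSSubtrusive (pullback.snd f g) := by
  refine ⟨fun h V _ _ _ g => h _ _ _ (IsPullback.of_hasPullback f g).flip, fun h => univ_of_hasPairs fun V _ _ g => ?_⟩
  obtain ⟨x, x', hx, h₀, h₁⟩ := h V g (gen_specializes_closed (CommRingCat.of V))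
  refine ⟨(pullbackSymmetry f g).hom x', (pullbackSymmetry f g).hom x,
    hx.map (pullbackSymmetry f g).hom.continuous, ?_, ?_⟩
  · rw [← Scheme.Hom.comp_apply, pullbackSymmetry_hom_comp_fst, h₁]
  · rw [← Scheme.Hom.comp_apply, pullbackSymmetry_hom_comp_fst, h₀]

/-- An injective local map of valuation rings is surjective on spectra. -/
theorem surjective_of_isExtVal {V W : CommRingCat.{u}} [IsDomain V] [ValuationRing V] [IsDomain W]
    [ValuationRing W] {φ : V ⟶ W} (h : HTop.IsExtVal V W φ) : Surjective (Spec.map φ) := by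
  refine ⟨fun p => ?_⟩
  haveI := p.isPrime
  have key : (p.asIdeal.map φ.hom).comap φ.hom = p.asIdeal := by
    refine le_antisymm (fun x hx => ?_) Ideal.le_comap_map
    by_contra hxp
    -- every element of `p` is a multiple of `x` inside `p`
    have hmul : ∀ a ∈ p.asIdeal, ∃ b ∈ p.asIdeal, a = x * b := by
      intro a ha
      rcases ValuationRing.dvd_total x a with ⟨b, rfl⟩ | ⟨b, rfl⟩
      · exact ⟨b, (p.isPrime.mem_or_mem ha).resolve_left hxp, rfl⟩
      · exact absurd (p.asIdeal.mul_mem_right b ha) hxp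
    have hsub : p.asIdeal.map φ.hom ≤ Ideal.span {φ.hom x} * p.asIdeal.map φ.hom := by
      refine Ideal.map_le_iff_le_comap.mpr fun a ha => ?_
      obtain ⟨b, hb, rfl⟩ := hmul a ha
      rw [Ideal.mem_comap, map_mul]
      exact Ideal.mul_mem_mul (Ideal.mem_span_singleton_self _) (Ideal.mem_map_of_mem _ hb)
    have hx0 : x ≠ 0 := fun e => hxp (e ▸ p.asIdeal.zero_mem)
    obtain ⟨w, hw, hwx⟩ := Ideal.mem_span_singleton_mul.mp (hsub hx)
    have hw1 : w = 1 := by
      have : φ.hom x * w = φ.hom x * 1 := by rw [mul_one]; exact hwx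
      exact mul_left_cancel₀ (fun e => hx0 (h.1 (e.trans (map_zero _).symm))) this
    have htop : p.asIdeal.map φ.hom ≠ ⊤ := fun e => by
      haveI := h.2
      have hm : p.asIdeal.map φ.hom ≤ IsLocalRing.maximalIdeal W :=
        Ideal.map_le_iff_le_comap.mpr ((IsLocalRing.le_maximalIdeal p.isPrime.ne_top).trans
          (((IsLocalRing.local_hom_TFAE φ.hom).out 0 4 : IsLocalHom φ.hom ↔
            (IsLocalRing.maximalIdeal W).comap φ.hom = IsLocalRing.maximalIdeal V).mp h.2).ge)
      exact (IsLocalRing.maximalIdeal.isMaximal W).ne_top (top_le_iff.mp (e ▸ hm))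
    exact htop ((Ideal.eq_top_iff_one _).mpr (hw1 ▸ hw))
  obtain ⟨q, hq, hqp⟩ := (Ideal.comap_map_eq_self_iff_of_isPrime p.asIdeal).mp key
  exact ⟨⟨q, hq⟩, PrimeSpectrum.ext hqp⟩

theorem univ_of_valuation_surjective {f : X ⟶ Y}
    (h : ∀ (V : CommRingCat.{u}) [IsDomain V] [ValuationRing V] (g : Spec V ⟶ Y),
      ∃ (W : CommRingCat.{u}) (_ : IsDomain W) (_ : ValuationRing W) (a : Spec W ⟶ X) (b : Spec W ⟶ Spec V),
        Surjective b ∧ a ≫ f = b ≫ g) : Subtr.UnivSSubtrusive f := by
  refine univ_of_hasPairs fun V _ _ g => ?_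
  obtain ⟨W, _, _, a, b, hb, hab⟩ := h V g
  let q := pullback.lift b a hab.symm
  obtain ⟨y', hy'⟩ := b.surjective (gen V)
  obtain ⟨y, hy⟩ := b.surjective (closed V)
  have hq : q ≫ pullback.fst g f = b := pullback.lift_fst _ _ _
  rcases (ValuationRing.le_total_ideal (A := W)).total y'.asIdeal y.asIdeal with hle | hle
  · refine ⟨q y', q y, ((PrimeSpectrum.le_iff_specializes _ _).mp hle).map q.continuous, ?_, ?_⟩
    · rw [← Scheme.Hom.comp_apply, hq, hy']
    · rw [← Scheme.Hom.comp_apply, hq, hy]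
  · have e : gen V = closed V := by
      have := ((PrimeSpectrum.le_iff_specializes _ _).mp hle).map b.continuous
      rw [hy, hy'] at this
      exact (Specializes.antisymm (gen_specializes_closed V) this).eq
    refine ⟨q y', q y', specializes_rfl, ?_, ?_⟩
    · rw [← Scheme.Hom.comp_apply, hq, hy']
    · rw [← Scheme.Hom.comp_apply, hq, hy', e]

theorem univSSubtrusive_iff_extension (f : X ⟶ Y) :
    Subtr.UnivSSubtrusive f ↔
      ∀ (V : Type u) [CommRing V] [IsDomain V] [ValuationRing V] (g : Spec (CommRingCat.of V) ⟶ Y),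
        ∃ (V' : Type u) (_ : CommRing V') (_ : IsDomain V') (_ : ValuationRing V')
          (a : Spec (CommRingCat.of V') ⟶ X) (b : Spec (CommRingCat.of V') ⟶ Spec (CommRingCat.of V)),
          Surjective b ∧ a ≫ f = b ≫ g := by
  refine ⟨fun h V _ _ _ g => ?_, fun h => univ_of_valuation_surjective fun V _ _ g => ?_⟩
  · obtain ⟨W, h₁, h₂, φ, hφ, _j, l, hl⟩ := (univSSubtrusive_iff f).mp h (CommRingCat.of V) g
    exact ⟨W, inferInstance, h₁, h₂, l, Spec.map φ, surjective_of_isExtVal hφ, hl⟩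
  · obtain ⟨W, _, h₁, h₂, a, b, hb⟩ := h V g
    exact ⟨CommRingCat.of W, h₁, h₂, a, b, hb⟩

theorem univ_of_flat_surjective {Z : Scheme.{u}} (f : Z ⟶ Y) [Flat f] [Surjective f] :
    Subtr.UnivSSubtrusive f := by
  refine univ_of_hasPairs fun V _ _ g => ?_
  obtain ⟨x, hx⟩ := (pullback.fst g f).surjective (closed V)
  obtain ⟨x', hx', hgx'⟩ := (Flat.generalizingMap (pullback.fst g f))
    (show gen V ⤳ pullback.fst g f x from hx.symm ▸ gen_specializes_closed V)
  exact ⟨x', x, hx', hgx', hx⟩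

theorem univ_of_comp {Z : Scheme.{u}} (i : Z ⟶ X) (f : X ⟶ Y) (h : Subtr.UnivSSubtrusive (i ≫ f)) :
    Subtr.UnivSSubtrusive f := by
  rw [univSSubtrusive_iff] at h ⊢
  intro V _ _ g
  obtain ⟨W, h₁, h₂, φ, hφ, _j, l, hl⟩ := h V g
  exact ⟨W, h₁, h₂, φ, hφ, PUnit.unit, l ≫ i, by rw [← hl]; exact Category.assoc _ _ _⟩

theorem isClosed_of_procons {E : Set Y} (hE : ProCons.IsProConstructible E) (h : StableUnderSpecialization E) :
    IsClosed E := by
  refine isClosed_of_closure_subset fun y hy => ?_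
  obtain ⟨e, he, hey⟩ := exists_specializes_of_mem_closure_sch hE hy
  exact h hey he

theorem isQuotientMap_of_qc (f : X ⟶ Y) [QuasiCompact f]
    (hsurj : Function.Surjective f)
    (hst : ∀ s : Set Y, IsClosed (f ⁻¹' s) → StableUnderSpecialization s) : IsQuotientMap f := by
  refine (Topology.isQuotientMap_iff_isClosed).mpr ⟨hsurj, fun s => ⟨fun hs => hs.preimage f.continuous, fun hs => ?_⟩⟩
  refine isClosed_of_procons ?_ (hst s hs)
  rw [← Set.image_preimage_eq s hsurj]
  exact isProConstructible_image f (RichLib.LimTop.isProConstructible_of_isClosed hs)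

theorem isQuotientMap_of_isSSubtrusive (f : X ⟶ Y) [QuasiCompact f] (h : Subtr.IsSSubtrusive f) :
    IsQuotientMap f :=
  isQuotientMap_of_qc f (fun y => by obtain ⟨x, -, -, hx, -⟩ := h (specializes_refl y); exact ⟨x, hx⟩)
    fun s hs a b hab ha => by
      obtain ⟨x, x', hx, rfl, rfl⟩ := h hab
      exact hx.mem_closed hs ha

theorem univSubmersive_of_univSSubtrusive (f : X ⟶ Y) [QuasiCompact f] (h : Subtr.UnivSSubtrusive f) :
    SGA1.UnivSubmersive f := fun _ _ i₁ i₂ f' hsq => by
  haveI : QuasiCompact f' := MorphismProperty.of_isPullback (P := @QuasiCompact) hsq.flip inferInstance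
  exact isQuotientMap_of_isSSubtrusive f' (h i₁ i₂ f' hsq)

theorem univSubmersive_iff_valuation (f : X ⟶ Y) [QuasiCompact f] :
    SGA1.UnivSubmersive f ↔
      ∀ (V : Type u) [CommRing V] [IsDomain V] [ValuationRing V] (g : Spec (CommRingCat.of V) ⟶ Y),
        IsQuotientMap (pullback.snd f g) := by
  refine ⟨fun h V _ _ _ g => h _ _ _ (IsPullback.of_hasPullback f g).flip, fun h => ?_⟩
  intro X' Y' i₁ i₂ f' hsq
  haveI : QuasiCompact f' := MorphismProperty.of_isPullback (P := @QuasiCompact) hsq.flip inferInstance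
  have key : ∀ (V : CommRingCat.{u}) [IsDomain V] [ValuationRing V] (l : Spec V ⟶ Y'),
      IsQuotientMap (pullback.snd f' l) := by
    intro V _ _ l
    have hq : IsQuotientMap (pullback.snd f (l ≫ i₂)) := h V (l ≫ i₂)
    let e := ((IsPullback.of_hasPullback f' l).flip.paste_vert hsq).flip.isoPullback
    have he : e.hom ≫ pullback.snd f (l ≫ i₂) = pullback.snd f' l := IsPullback.isoPullback_hom_snd _
    rw [← he]
    exact hq.comp e.hom.homeomorph.isQuotientMap
  refine isQuotientMap_of_qc f' (fun y => ?_) fun s hs a b hab ha => ?_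
  · obtain ⟨V, _, _, l, hl, -⟩ := exists_val Y' (specializes_refl y)
    obtain ⟨x, hx⟩ := (key V l).surjective (gen V)
    exact ⟨pullback.fst f' l x, by rw [← Scheme.Hom.comp_apply, pullback.condition, Scheme.Hom.comp_apply, hx, hl]⟩
  · obtain ⟨V, _, _, l, hla, hlb⟩ := exists_val Y' hab
    have hcl : IsClosed (l ⁻¹' s) := by
      rw [← (key V l).isClosed_preimage]
      have e : pullback.snd f' l ⁻¹' (l ⁻¹' s) = pullback.fst f' l ⁻¹' (f' ⁻¹' s) := by
        ext x
        simp only [Set.mem_preimage, ← Scheme.Hom.comp_apply, pullback.condition]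
      rw [e]
      exact hs.preimage (pullback.fst f' l).continuous
    rw [← hlb]
    exact (gen_specializes_closed V).mem_closed hcl (show l (gen V) ∈ s by rwa [hla])

theorem isFinite_of_univSubmersive {S S' : Scheme.{u}} (g : S' ⟶ S) [QuasiCompact g] (hg : SGA1.UnivSubmersive g)
    (f : X ⟶ S) [Etale f] [IsFinite (pullback.snd f g)] : IsFinite f := by
  have sq : IsPullback (pullback.snd f g) (pullback.fst f g) g f := (IsPullback.of_hasPullback f g).flip
  haveI : IsSeparated f := FFDescLib.isSeparated_of_isPullback sq hg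
  haveI : UniversallyClosed f :=
    MorphismProperty.of_isPullback_of_descendsAlong (P := @UniversallyClosed) (Q := SGA1.UnivSubmersive) sq hg
      inferInstance
  haveI : IsProper f := ⟨⟩
  haveI := WeightLib.locallyQuasiFinite_of_etale f
  exact IsFinite.of_isProper_of_locallyQuasiFinite f

theorem image_closure_of_maximal (f : X ⟶ Y) (hf : Subtr.IsSSubtrusive f) (U : Set Y)
    (hU : ∀ y : Y, (∀ y' : Y, y' ⤳ y → y' = y) → y ∈ U) : f '' closure (f ⁻¹' U) = Set.univ := by
  refine Set.eq_univ_of_forall fun y => ?_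
  obtain ⟨Z, hZ, hyZ⟩ := exists_mem_irreducibleComponents_subset_of_isIrreducible {y} isIrreducible_singleton
  obtain ⟨η, hη⟩ := QuasiSober.sober hZ.1 (isClosed_of_mem_irreducibleComponents Z hZ)
  have hηy : η ⤳ y := hη.specializes (hyZ rfl)
  obtain ⟨x, x', hx, rfl, hx'⟩ := hf hηy
  refine ⟨x, closure_mono ?_ (specializes_iff_mem_closure.mp hx), rfl⟩
  rintro _ rfl
  refine hU _ fun y' hy' => ?_
  rw [hx'] at hy' ⊢
  have h1 : Z ⊆ closure {y'} := hη.def ▸ specializes_iff_closure_subset.mp hy'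
  have h2 : closure {y'} ⊆ Z := hZ.2 isIrreducible_singleton.closure h1
  exact (IsGenericPoint.eq (show IsGenericPoint y' Z from Set.Subset.antisymm h2 h1) hη)

theorem isSSubtrusive_iff_procons (f : X ⟶ Y) :
    Subtr.IsSSubtrusive f ↔
      ∀ Z : Set Y, ProCons.IsProConstructible Z → f '' closure (f ⁻¹' Z) = closure Z := by
  refine ⟨fun h Z hZ => Set.Subset.antisymm ?_ fun y hy => ?_, fun h y y' hy => ?_⟩
  · exact (image_closure_subset_closure_image f.continuous).trans (closure_mono (Set.image_preimage_subset f Z))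
  · obtain ⟨z, hz, hzy⟩ := exists_specializes_of_mem_closure_sch hZ hy
    obtain ⟨x, x', hx, rfl, rfl⟩ := h hzy
    exact ⟨x, closure_mono (by rintro _ rfl; exact hz) (specializes_iff_mem_closure.mp hx), rfl⟩
  · obtain ⟨x, hx, hxy⟩ := (h {y'} (singleton_isProConstructible y')).ge
      (specializes_iff_mem_closure.mp hy : y ∈ closure {y'})
    obtain ⟨x', hx', hxx⟩ :=
      exists_specializes_of_mem_closure_sch (isProConstructible_preimage f (singleton_isProConstructible y')) hx
    exact ⟨x, x', hxx, hxy, hx'⟩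

theorem procons_of_isLocallyClosed_isRetrocompact {E : Set X} (h₁ : IsLocallyClosed E) (h₂ : IsRetrocompact E) :
    ProCons.IsProConstructible E := by
  refine isProConstructible_iff_affine.mpr fun U hU => ?_
  haveI : IsAffine U.toScheme := hU
  have hc : IsCompact (U.ι ⁻¹' E) := by
    rw [U.ι.isOpenEmbedding.isInducing.isCompact_iff, Set.image_preimage_eq_inter_range, Scheme.Opens.range_ι]
    exact h₂ hU.isCompact U.2
  obtain ⟨W, C, hW, hC, hWC⟩ := h₁.preimage U.ι.continuous
  have hbasis := PrespectralSpace.isTopologicalBasis (X := U.toScheme)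
  obtain ⟨K, hK, hKo, hsub, hKW⟩ := PrespectralSpace.exists_isCompact_and_isOpen_between hc hW
    (hWC ▸ Set.inter_subset_left)
  have e : U.ι ⁻¹' E = C ∩ K := by
    rw [hWC]
    exact Set.Subset.antisymm (fun x hx => ⟨hx.2, hsub (hWC.ge hx)⟩) fun x hx => ⟨hKW hx.2, hx.1⟩
  rw [e]
  exact @IsClosed.inter _ _ _ (constructibleTopology U.toScheme)
    (isProConstructible_iff_isClosed_cons.mp (RichLib.LimTop.isProConstructible_of_isClosed hC))
    (isClopen_cons_of_isConstructible (hK.isConstructible hKo)).1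

theorem isRetrocompact_of_procons {E : Set X} (h : ProCons.IsProConstructible E) : IsRetrocompact E := by
  intro U hUc hUo
  let O : X.Opens := ⟨U, hUo⟩
  haveI : CompactSpace O.toScheme := isCompact_iff_compactSpace.mp hUc
  obtain ⟨X', g, hX', hg⟩ := exists_range_eq_of_isProConstructible O.toScheme
    (isProConstructible_preimage O.ι h)
  rw [show E ∩ U = O.ι '' (O.ι ⁻¹' E) by rw [Set.image_preimage_eq_inter_range, Scheme.Opens.range_ι]; rfl, ← hg]
  exact (isCompact_range g.continuous).image O.ι.continuous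

theorem isLocallyClosed_isRetrocompact_iff (f : X ⟶ Y) [QuasiCompact f] (hf : Subtr.UnivSSubtrusive f)
    (chain : ∀ a b c : Y, a ⤳ b → b ⤳ c → ∃ a' b' c' : X, a' ⤳ b' ∧ b' ⤳ c' ∧ f a' = a ∧ f b' = b ∧ f c' = c)
    (E : Set Y) :
    (IsLocallyClosed E ∧ IsRetrocompact E) ↔ (IsLocallyClosed (f ⁻¹' E) ∧ IsRetrocompact (f ⁻¹' E)) := by
  have hS : Subtr.IsSSubtrusive f := hf (𝟙 _) (𝟙 _) f IsPullback.of_id_snd
  refine ⟨fun ⟨h₁, h₂⟩ => ⟨h₁.preimage f.continuous,
    isRetrocompact_of_procons (isProConstructible_preimage f (procons_of_isLocallyClosed_isRetrocompact h₁ h₂))⟩, ?_⟩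
  rintro ⟨h₁, h₂⟩
  have hsurj : Function.Surjective f := fun y => by
    obtain ⟨x, -, -, hx, -⟩ := hS (specializes_refl y); exact ⟨x, hx⟩
  have hpE := procons_of_isLocallyClosed_isRetrocompact h₁ h₂
  have hE : ProCons.IsProConstructible E := Set.image_preimage_eq E hsurj ▸ isProConstructible_image f hpE
  refine ⟨?_, isRetrocompact_of_procons hE⟩
  have convex : ∀ a b c, a ∈ E → c ∈ E → a ⤳ b → b ⤳ c → b ∈ E := by
    intro a b c ha hc hab hbc
    obtain ⟨a', b', c', hab', hbc', rfl, rfl, rfl⟩ := chain a b c hab hbc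
    obtain ⟨W, C, hW, hC, hWC⟩ := h₁
    have hc' : c' ∈ W ∩ C := hWC.le hc
    have ha' : a' ∈ W ∩ C := hWC.le ha
    exact hWC.ge (⟨hbc'.mem_open hW hc'.1, hab'.mem_closed hC ha'.2⟩ : b' ∈ W ∩ C)
  let D := f '' (closure (f ⁻¹' E) \ f ⁻¹' E)
  have hDcl : IsClosed (closure (f ⁻¹' E) \ f ⁻¹' E) := by
    have := h₁.isOpen_coborder.isClosed_compl
    rwa [coborder, compl_compl] at this
  have hD : IsClosed D := by
    refine isClosed_of_procons (isProConstructible_image f (RichLib.LimTop.isProConstructible_of_isClosed hDcl)) ?_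
    intro y z hyz hy
    obtain ⟨c, hc, rfl⟩ := hy
    obtain ⟨e, he, hec⟩ := exists_specializes_of_mem_closure_sch hpE hc.1
    have hzE : z ∉ E := fun hz => hc.2 (convex _ _ _ he hz (hec.map f.continuous) hyz)
    obtain ⟨x, x', hx, rfl, hx'⟩ := hS ((hec.map f.continuous).trans hyz)
    refine ⟨x, ⟨closure_mono (Set.singleton_subset_iff.mpr (show x' ∈ f ⁻¹' E from (hx'.symm ▸ he : f x' ∈ E))) (specializes_iff_mem_closure.mp hx),
      hzE⟩, rfl⟩
  refine ⟨Dᶜ, closure E, hD.isOpen_compl, isClosed_closure, Set.Subset.antisymm (fun y hy => ⟨?_, subset_closure hy⟩) ?_⟩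
  · rintro ⟨c, hc, rfl⟩
    exact hc.2 hy
  · rintro y ⟨hyD, hy⟩
    by_contra hyE
    obtain ⟨e, he, hey⟩ := exists_specializes_of_mem_closure_sch hE hy
    obtain ⟨x, x', hx, rfl, hx'⟩ := hS hey
    exact hyD ⟨x, ⟨closure_mono (Set.singleton_subset_iff.mpr (show x' ∈ f ⁻¹' E from (hx'.symm ▸ he : f x' ∈ E))) (specializes_iff_mem_closure.mp hx),
      hyE⟩, rfl⟩

end VCovLib
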